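import Cfsg.Agent.Lib.FischerMTypes.OrderWidth
import Cfsg.Agent.Lib.G24.Field

/-!
Type M(22): coordinates over the computable field with four elements on the point model at a
transposition, for a chosen Gram matrix of a basis.
-/

set_option autoImplicit false
set_option linter.style.haveILetI false
set_option linter.unusedSectionVars false
set_option linter.dupNamespace false

namespace Cfsg.Agent.Lib.FischerUniq91.Coord

open Cfsg.Agent.Lib.FischerMTypes.Basic Cfsg.Agent.Lib.FischerMTypes.Primitive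
  Cfsg.Agent.Lib.FischerMTypes.Unique Cfsg.Agent.Lib.FischerMTypes.PointModel
open Cfsg.Agent.Lib.Unitary (herm_smul_left herm_smul_right herm_sum_left herm_sum_right herm_conj
  herm_zero_left herm_add_left herm_eq_zero_symm)
open Cfsg.Agent.Lib.UnitaryFour.Transvection
open Cfsg.Agent.Lib.G24 (K4)

/-- Vectors of length six over the field with four elements. -/
abbrev V : Type := Fin 6 → K4

/-- The element with number `i`. -/
def dec : ℕ → K4
  | 1 => .e
  | 2 => .w
  | 3 => .v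
  | _ => .z

/-- The vector with number `n`. -/
def vec (n : ℕ) : V := fun k => dec (n / 4 ^ k.1 % 4)

/-- The number of an element. -/
def enc : K4 → ℕ
  | .z => 0
  | .e => 1
  | .w => 2
  | .v => 3

/-- The number of a vector. -/
def code (v : V) : ℕ :=
  enc (v 0) + 4 * (enc (v 1) + 4 * (enc (v 2) + 4 * (enc (v 3) + 4 * (enc (v 4) + 4 * enc (v 5)))))

theorem code_lt (v : V) : code v < 4096 := by
  have h : ∀ x : K4, enc x ≤ 3 := by decide
  have := h (v 0); have := h (v 1); have := h (v 2); have := h (v 3); have := h (v 4); have := h (v 5)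
  unfold code
  omega

theorem vec_code (v : V) : vec (code v) = v := by
  have h : ∀ x : K4, enc x ≤ 3 := by decide
  have hd : ∀ x : K4, dec (enc x) = x := by decide
  have := h (v 0); have := h (v 1); have := h (v 2); have := h (v 3); have := h (v 4); have := h (v 5)
  funext k
  refine Eq.trans ?_ (hd (v k))
  show dec (code v / 4 ^ k.1 % 4) = _
  congr 1
  unfold code
  fin_cases k <;> simp <;> omega

/-- The `i`-th unit vector. -/
def unit (i : Fin 6) : V := fun k => if k = i then 1 else 0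

/-- A sum over six indices, written out. -/
def sum6 {M : Type*} [Add M] (f : Fin 6 → M) : M := f 0 + f 1 + f 2 + f 3 + f 4 + f 5

theorem sum6_eq {M : Type*} [AddCommMonoid M] (f : Fin 6 → M) : sum6 f = ∑ i, f i := by
  rw [Fin.sum_univ_six]; rfl

/-- The Hermitian form of a Gram matrix. -/
def J (M : Fin 6 → V) (v w : V) : K4 :=
  sum6 fun i => v i * sum6 fun j => M i j * (w j * w j)

/-- The combination of six vectors. -/
def comb (b : Fin 6 → V) (v : V) : V := fun k => sum6 fun i => v i * b i k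

/-- Image under the transvection of `v`. -/
def tvI (M : Fin 6 → V) (v w : V) : V := fun k => w k + J M w v * v k

/-- Hyperbolic pair and orthonormal complement. -/
def M1 : Fin 6 → V := fun i k =>
  if i.1 = 0 then (if k.1 = 5 then 1 else 0)
  else if i.1 = 5 then (if k.1 = 0 then 1 else 0)
  else (if k = i then 1 else 0)

/-- The path of six points. -/
def M3 : Fin 6 → V := fun i k => if i.1 + 1 = k.1 ∨ k.1 + 1 = i.1 then 1 else 0

/-- The inverse of the path matrix. -/
def M3inv : Fin 6 → V := fun i k =>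
  if (i.1, k.1) ∈ [(0, 1), (0, 3), (0, 5), (2, 3), (2, 5), (4, 5), (1, 0), (3, 0), (5, 0), (3, 2),
    (5, 2), (5, 4)] then 1 else 0

/-- `N` is a right inverse of `M`. -/
def IsInv (M N : Fin 6 → V) : Prop :=
  ∀ i k, sum6 (fun j => M i j * N j k) = if i = k then 1 else 0

theorem isInv_M1 : IsInv M1 M1 := by unfold IsInv; decide +kernel

theorem isInv_M3 : IsInv M3 M3inv := by unfold IsInv; decide +kernel

variable {G : Type*} [Group G] [Finite G] {D : Set G}
variable {F : Type} [Field F] [Fintype F]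

local notation "h⟪" u ", " v "⟫" => Cfsg.hermForm 6 F 2 u v

/-- coordinates on the model at `q` for the Gram matrix `M` -/
structure Coord {q : G} (C : Ctx D q F) (M : Fin 6 → V) where
  ι : K4 →+* F
  B : Fin 6 → Fin 6 → F
  gram : ∀ i j, h⟪B i, B j⟫ = ι (M i j)
  N : Fin 6 → V
  inv : IsInv M N

variable {q : G} {C : Ctx D q F} {M : Fin 6 → V} (K : Coord C M)

namespace Coord

/-- the vector with coordinates `v` -/
def L (v : V) : Fin 6 → F := ∑ i, K.ι (v i) • K.B i

theorem L_add (v w : V) : K.L (v + w) = K.L v + K.L w := by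
  simp [L, add_smul, Finset.sum_add_distrib]

theorem L_smul (c : K4) (v : V) : K.L (c • v) = K.ι c • K.L v := by
  simp [L, Finset.smul_sum, smul_smul]

theorem L_zero : K.L 0 = 0 := by simp [L]

theorem L_unit (i : Fin 6) : K.L (unit i) = K.B i := by
  simp [L, unit]

theorem herm (v w : V) : h⟪K.L v, K.L w⟫ = K.ι (J M v w) := by
  rw [L, L, herm_sum_left]
  simp only [J, sum6_eq, map_sum, map_mul]
  refine Finset.sum_congr rfl fun i _ => ?_
  rw [herm_smul_left, herm_sum_right _ C.hF]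
  congr 1
  refine Finset.sum_congr rfl fun j _ => ?_
  rw [herm_smul_right, K.gram]
  ring

theorem L_eq_zero {v : V} (h : K.L v = 0) : v = 0 := by
  have h0 : ∀ j, sum6 (fun i => v i * M i j) = 0 := fun j => by
    refine K.ι.injective ?_
    have e : h⟪K.L v, K.B j⟫ = 0 := by rw [h, herm_zero_left]
    rw [map_zero, ← e, sum6_eq, map_sum]
    simp [L, herm_sum_left, herm_smul_left, K.gram]
  funext k
  calc v k = sum6 (fun i => v i * (if i = k then 1 else 0)) := by simp [sum6_eq]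
    _ = sum6 (fun i => v i * sum6 (fun j => M i j * K.N j k)) := by simp only [K.inv _ k]
    _ = sum6 (fun j => sum6 (fun i => v i * M i j) * K.N j k) := by
      simp only [sum6_eq, Finset.mul_sum, Finset.sum_mul]
      rw [Finset.sum_comm]
      simp [mul_assoc]
    _ = 0 := by simp [h0, sum6_eq]

theorem L_injective : Function.Injective K.L := by
  intro v w h
  have e : K.L (v - w) + K.L w = K.L w := by rw [← K.L_add, sub_add_cancel, h]
  exact sub_eq_zero.mp (K.L_eq_zero (by simpa using e))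

theorem L_surj (u : Fin 6 → F) : ∃ v, K.L v = u :=
  (Fintype.bijective_iff_injective_and_card K.L).2
    ⟨K.L_injective, by simp [C.hF, Cfsg.Agent.Lib.G24.K4.card_eq]⟩ |>.2 u

/-- `v` is a non-zero isotropic vector -/
def Iso (M : Fin 6 → V) (v : V) : Prop := J M v v = 0 ∧ v ≠ 0

instance instDecidableIso (M : Fin 6 → V) (v : V) : Decidable (Iso M v) :=
  inferInstanceAs (Decidable (_ ∧ _))

theorem iso_L {v : V} (hv : Iso M v) : h⟪K.L v, K.L v⟫ = 0 ∧ K.L v ≠ 0 :=
  ⟨by rw [K.herm, hv.1, map_zero], fun h => hv.2 (K.L_eq_zero h)⟩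

/-- the transposition at `v` -/
noncomputable def P (v : V) : G := C.pt (K.L v)

theorem P_mem {v : V} (hv : Iso M v) : K.P v ∈ perp D q := C.pt_mem (K.iso_L hv).1 (K.iso_L hv).2

theorem P_comm {v w : V} (hv : Iso M v) (hw : Iso M w) : Commute (K.P v) (K.P w) ↔ J M v w = 0 := by
  rw [P, P, C.pt_comm (K.iso_L hv).1 (K.iso_L hv).2 (K.iso_L hw).1 (K.iso_L hw).2, K.herm]
  exact map_eq_zero_iff K.ι K.ι.injective

theorem P_eq {v w : V} (hv : Iso M v) (hw : Iso M w) :
    K.P v = K.P w ↔ ∃ c : K4, c ≠ 0 ∧ w = c • v := by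
  rw [P, P, C.pt_eq (K.iso_L hv).1 (K.iso_L hv).2 (K.iso_L hw).1 (K.iso_L hw).2]
  constructor
  · rintro ⟨c, hc, h⟩
    obtain ⟨c, rfl⟩ := ((Fintype.bijective_iff_injective_and_card K.ι).2
      ⟨K.ι.injective, by rw [Cfsg.Agent.Lib.G24.K4.card_eq, C.hF]; norm_num⟩).2 c
    exact ⟨c, fun h0 => hc (by rw [h0, map_zero]), K.L_injective (by rw [K.L_smul, h])⟩
  · rintro ⟨c, hc, rfl⟩
    exact ⟨K.ι c, fun h => hc (K.ι.injective (by rw [h, map_zero])), K.L_smul c v⟩

theorem P_smul {v : V} (hv : Iso M v) {c : K4} (hc : c ≠ 0) : K.P (c • v) = K.P v := by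
  rw [P, P, K.L_smul, C.pt_smul (K.iso_L hv).1 (K.iso_L hv).2]
  exact fun h => hc (K.ι.injective (by rw [h, map_zero]))

theorem exists_P {y : G} (hy : y ∈ perp D q) : ∃ v, Iso M v ∧ K.P v = y := by
  obtain ⟨u, hu, hu0, e⟩ := C.exists_pt hy
  obtain ⟨v, rfl⟩ := K.L_surj u
  exact ⟨v, ⟨K.ι.injective (by rw [← K.herm, hu, map_zero]), fun h => hu0 (by rw [h, L_zero])⟩, e⟩

theorem L_tvI (v w : V) : K.L (tvI M v w) = K.L w + h⟪K.L w, K.L v⟫ • K.L v := by
  rw [K.herm, show tvI M v w = w + J M w v • v from rfl, K.L_add, K.L_smul]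

theorem act_tv_L {v : V} (hv : Iso M v) (w : V) :
    act (tv C.hF (K.L v) (K.iso_L hv).1) (K.L w) = K.L (tvI M v w) := by
  rw [act_tv, L_tvI]

theorem P_conj {v w : V} (hv : Iso M v) (hw : Iso M w) : K.P v * K.P w * K.P v = K.P (tvI M v w) := by
  have hk : QuotientGroup.mk (⟨K.P v, Subgroup.subset_closure (K.P_mem hv)⟩ :
      ↥(Subgroup.closure (perp D q))) = C.φ (tv C.hF (K.L v) (K.iso_L hv).1) :=
    C.pt_im (K.iso_L hv).1 (K.iso_L hv).2
  have h := C.pt_conj (K.iso_L hw).1 (K.iso_L hw).2 _ hk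
  rw [K.act_tv_L hv] at h
  have e := inv_eq C.hD.1 (K.P_mem hv).1
  calc K.P v * K.P w * K.P v = K.P v * K.P w * (K.P v)⁻¹ := by rw [e]
    _ = K.P (tvI M v w) := h

include K in
theorem iso_tvI {v w : V} (hv : Iso M v) (hw : Iso M w) : Iso M (tvI M v w) := by
  have e := K.act_tv_L hv w
  refine ⟨K.ι.injective ?_, fun h => hw.2 (K.L_eq_zero ?_)⟩
  · rw [← K.herm, ← e, act_herm, K.herm, hw.1]
  · rw [← act_inv_self (tv C.hF (K.L v) (K.iso_L hv).1) (K.L w), e, h, L_zero]
    simp [act_def]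

/-- coordinates for the images of a basis -/
def change (b : Fin 6 → V) (M' N' : Fin 6 → V) (hb : ∀ i j, J M (b i) (b j) = M' i j)
    (hN : IsInv M' N') : Coord C M' where
  ι := K.ι
  B i := K.L (b i)
  gram i j := by rw [K.herm, hb]
  N := N'
  inv := hN

theorem change_L (b : Fin 6 → V) (M' N' : Fin 6 → V) (hb : ∀ i j, J M (b i) (b j) = M' i j)
    (hN : IsInv M' N') (v : V) : (K.change b M' N' hb hN).L v = K.L (comb b v) := by
  show ∑ i, K.ι (v i) • (∑ k, K.ι (b i k) • K.B k) = ∑ k, K.ι (comb b v k) • K.B k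
  simp only [comb, sum6_eq, map_sum, map_mul, Finset.smul_sum, smul_smul, Finset.sum_smul]
  exact Finset.sum_comm

theorem change_P (b : Fin 6 → V) (M' N' : Fin 6 → V) (hb : ∀ i j, J M (b i) (b j) = M' i j)
    (hN : IsInv M' N') (v : V) : (K.change b M' N' hb hN).P v = K.P (comb b v) :=
  congrArg C.pt (K.change_L b M' N' hb hN v)

theorem unit_iso (hd : ∀ i, M i i = 0) (i : Fin 6) : Iso M (unit i) := by
  refine ⟨?_, fun h => ?_⟩
  · simp [J, unit, sum6_eq, hd]
  · simpa [unit] using congrFun h i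

end Coord

variable (C)

include C

/-- the embedding of the computable field -/
theorem exists_iota : Nonempty (K4 →+* F) :=
  ⟨(FiniteField.ringEquivOfCardEq
    (by rw [Cfsg.Agent.Lib.G24.K4.card_eq, C.hF]; norm_num : Fintype.card K4 = Fintype.card F)).toRingHom⟩

open Cfsg.Agent.Lib.UnitaryFour.Stabilizer in
/-- coordinates from a hyperbolic pair and an orthonormal complement -/
theorem exists_of_hyp {e f : Fin 6 → F} (h : Cfsg.Agent.Lib.Unitary.Hyp 2 e f) :
    ∃ K : Coord C M1, K.B 0 = e ∧ K.B 5 = f := by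
  obtain ⟨ι⟩ := exists_iota C
  obtain ⟨g, hfr⟩ := exists_Frame C.hF h
  refine ⟨⟨ι, ![e, g 0, g 1, g 2, g 3, f], ?_, M1, isInv_M1⟩, rfl, rfl⟩
  have heg : ∀ i, h⟪e, g i⟫ = 0 := fun i => herm_eq_zero_symm C.hF (hfr.orth i).1
  have hfg : ∀ i, h⟪f, g i⟫ = 0 := fun i => herm_eq_zero_symm C.hF (hfr.orth i).2
  intro i j
  fin_cases i <;> fin_cases j <;>
    simp [M1, hfr.hyp.1, hfr.hyp.2.1, hfr.hyp.2.2, h.symm' C.hF, heg, hfg, (hfr.orth _).1, (hfr.orth _).2,
      hfr.on _ _]

theorem conj_sq (x : F) : (x ^ 2) ^ 2 = x := by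
  have := FiniteField.pow_card x
  rw [C.hF] at this
  rw [← pow_mul]
  exact this

/-- coordinates from six members forming a path -/
theorem exists_of_path {w : Fin 6 → G} (hw : ∀ i, w i ∈ perp D q)
    (hc : ∀ i j : Fin 6, Commute (w i) (w j) ↔ ¬ (i.1 + 1 = j.1 ∨ j.1 + 1 = i.1)) :
    ∃ K : Coord C M3, ∀ i, K.P (unit i) = w i := by
  obtain ⟨ι⟩ := exists_iota C
  choose v hv hv0 hp using fun i => C.exists_pt (hw i)
  have hh : ∀ i j : Fin 6, h⟪v i, v j⟫ = 0 ↔ ¬ (i.1 + 1 = j.1 ∨ j.1 + 1 = i.1) := fun i j => by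
    rw [← hc, ← hp i, ← hp j, C.pt_comm (hv i) (hv0 i) (hv j) (hv0 j)]
  -- scale along the path
  have step : ∀ (u : Fin 6 → F) (x : Fin 6 → F), h⟪u, x⟫ ≠ 0 →
      ∃ c : F, c ≠ 0 ∧ h⟪u, c • x⟫ = 1 := by
    intro u x hne
    refine ⟨(h⟪u, x⟫⁻¹) ^ 2, pow_ne_zero _ (inv_ne_zero hne), ?_⟩
    rw [herm_smul_right, conj_sq C, inv_mul_cancel₀ hne]
  have hne : ∀ (i j : Fin 6) (c : F), c ≠ 0 → i.1 + 1 = j.1 → h⟪c • v i, v j⟫ ≠ 0 := fun i j c hc0 hij => by
    rw [herm_smul_left]
    exact mul_ne_zero hc0 fun h => ((hh i j).1 h) (Or.inl hij)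
  obtain ⟨c1, h1, e1⟩ := step ((1 : F) • v 0) (v 1) (hne 0 1 1 one_ne_zero rfl)
  obtain ⟨c2, h2, e2⟩ := step (c1 • v 1) (v 2) (hne 1 2 c1 h1 rfl)
  obtain ⟨c3, h3, e3⟩ := step (c2 • v 2) (v 3) (hne 2 3 c2 h2 rfl)
  obtain ⟨c4, h4, e4⟩ := step (c3 • v 3) (v 4) (hne 3 4 c3 h3 rfl)
  obtain ⟨c5, h5, e5⟩ := step (c4 • v 4) (v 5) (hne 4 5 c4 h4 rfl)
  set c : Fin 6 → F := ![1, c1, c2, c3, c4, c5] with hcdef
  have hc0 : ∀ i, c i ≠ 0 := by
    intro i
    fin_cases i <;> simp [c, h1, h2, h3, h4, h5]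
  have hup : ∀ i j : Fin 6, i.1 + 1 = j.1 → h⟪c i • v i, c j • v j⟫ = 1 := by
    intro i j hij
    fin_cases i <;> fin_cases j <;> first
      | omega
      | exact e1
      | exact e2
      | exact e3
      | exact e4
      | exact e5
      | simp at hij
  refine ⟨⟨ι, fun i => c i • v i, ?_, M3inv, isInv_M3⟩, fun i => ?_⟩
  · intro i j
    by_cases h : i.1 + 1 = j.1 ∨ j.1 + 1 = i.1
    · rw [M3, if_pos h, map_one]
      rcases h with h | h
      · exact hup i j h
      · rw [← herm_conj _ _ C.hF, hup j i h, one_pow]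
    · rw [M3, if_neg h, map_zero, herm_smul_left, herm_smul_right, (hh i j).2 h, mul_zero, mul_zero]
  · rw [Coord.P, Coord.L_unit, C.pt_smul (hv i) (hv0 i) (hc0 i), hp]

end Cfsg.Agent.Lib.FischerUniq91.Coord
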