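import Cfsg.Agent.Lib.FischerUniq91.Rels
import Cfsg.Agent.S1696

/-!
A group of type M(22) is isomorphic to the presented Fi22, its transpositions corresponding to the
conjugates of a node; hence two such groups are isomorphic by a map matching the transpositions.
-/

set_option autoImplicit false
set_option maxRecDepth 20000
set_option linter.style.haveILetI false
set_option linter.unusedSectionVars false

namespace Cfsg.Agent.Lib.FischerUniq91.Main

open Cfsg.Agent.Lib.FischerMTypes.Basic Cfsg.Agent.Lib.FischerMTypes.TraceCounts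
open Cfsg.Agent.Lib.Fi22Mult
open Cfsg.Spor.Fi22 (edges)

variable {G : Type*} [Group G] [Finite G] {D : Set G}

/-- the isomorphism with the presented group -/
theorem exists_iso (hD : Cfsg.IsThreeTranspositionGroup D) (hprim : Cfsg.IsPrimitiveUnderConj D)
    (ht : Cfsg.IsOfTypeM22 G D) :
    ∃ e : Cfsg.Spor.Fi22 ≃* G, ∀ x, e (gen₂₂ x) ∈ D := by
  obtain ⟨F, _, _, ⟨S⟩⟩ := exists_sys hD hprim ht
  obtain ⟨N, h0, h1, h2⟩ := Rels.exists_nine S
  have hr : ∀ r ∈ Cfsg.Spor.coxRelators edges ∪ {r | r ∈ Cfsg.Spor.Fi22.extra},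
      FreeGroup.lift N.t r = 1 := by
    rintro r (⟨x, -, y, -, rfl⟩ | hr)
    · rw [map_pow, map_mul, FreeGroup.lift_apply_of, FreeGroup.lift_apply_of]
      exact N.cox S.hD x y
    · rw [Set.mem_ofPred_eq, extra_eq] at hr
      simp only [List.mem_cons, List.not_mem_nil, or_false] at hr
      rcases hr with rfl | rfl | rfl <;> rw [lift_word]
      exacts [h0, h1, h2]
  let φ : Cfsg.Spor.Fi22 →* G := PresentedGroup.toGroup hr
  have hφ : ∀ x, φ (gen₂₂ x) = N.t x := fun x => PresentedGroup.toGroup.of hr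
  obtain ⟨hsimple, hcard⟩ := Cfsg.Agent.S1696.result
  haveI := hsimple
  have hinj : Function.Injective φ := by
    rw [← MonoidHom.ker_eq_bot_iff]
    rcases (MonoidHom.normal_ker φ).eq_bot_or_eq_top with h | h
    · exact h
    · exfalso
      refine ne_one S.hD.1 (N.mem .a) ?_
      rw [← hφ, ← MonoidHom.mem_ker, h]
      trivial
  have hb : Function.Bijective φ := (Nat.bijective_iff_injective_and_card φ).2
    ⟨hinj, by rw [hcard, Cfsg.Agent.Lib.FischerMTypes.OrderWidth.card_group S]; norm_num⟩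
  exact ⟨MulEquiv.ofBijective φ hb, fun x => by
    rw [MulEquiv.ofBijective_apply, hφ]; exact N.mem x⟩

/-- uniqueness -/
theorem unique {G₁ G₂ : Type*} [Group G₁] [Finite G₁] [Group G₂] [Finite G₂] {D₁ : Set G₁} {D₂ : Set G₂}
    (hD₁ : Cfsg.IsThreeTranspositionGroup D₁) (hp₁ : Cfsg.IsPrimitiveUnderConj D₁)
    (ht₁ : Cfsg.IsOfTypeM22 G₁ D₁)
    (hD₂ : Cfsg.IsThreeTranspositionGroup D₂) (hp₂ : Cfsg.IsPrimitiveUnderConj D₂)
    (ht₂ : Cfsg.IsOfTypeM22 G₂ D₂) : ∃ e : G₁ ≃* G₂, e '' D₁ = D₂ := by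
  obtain ⟨e₁, h₁⟩ := exists_iso hD₁ hp₁ ht₁
  obtain ⟨e₂, h₂⟩ := exists_iso hD₂ hp₂ ht₂
  have hx : (e₁.symm.trans e₂) (e₁ (gen₂₂ .a)) = e₂ (gen₂₂ .a) := by simp
  refine ⟨e₁.symm.trans e₂, Set.ext fun y => ⟨?_, fun hy => ?_⟩⟩
  · rintro ⟨x, hx', rfl⟩
    obtain ⟨g, rfl⟩ := hp₁.1 _ (h₁ .a) x hx'
    rw [map_mul, map_mul, map_inv, hx]
    exact hD₂.2.1 _ _ (h₂ .a)
  · obtain ⟨g, rfl⟩ := hp₂.1 _ (h₂ .a) y hy
    obtain ⟨g, rfl⟩ := (e₁.symm.trans e₂).surjective g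
    exact ⟨g * e₁ (gen₂₂ .a) * g⁻¹, hD₁.2.1 g _ (h₁ .a), by rw [map_mul, map_mul, map_inv, hx]⟩

end Cfsg.Agent.Lib.FischerUniq91.Main
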