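import Cfsg.Agent.Lib.FischerUniq91.Checks

/-!
Type M(22): the common neighbours of a non-commuting pair contain six members forming a path.
At a member `p` the 45 others commuting with it form a section over the polar quotient; counting
shows that some further member has a path through it.
-/

set_option autoImplicit false
set_option linter.style.haveILetI false
set_option linter.unusedSectionVars false

namespace Cfsg.Agent.Lib.FischerUniq91.Trace

open Cfsg.Agent.Lib.FischerMTypes.Basic Cfsg.Agent.Lib.FischerMTypes.Primitive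
  Cfsg.Agent.Lib.FischerMTypes.PointModel Cfsg.Agent.Lib.FischerMTypes.TraceCounts
  Cfsg.Agent.Lib.FischerMTypes.TraceSize
open Cfsg.Agent.Lib.G24 (K4)
open Cfsg.Agent.Lib.FischerUniq91.Coord Cfsg.Agent.Lib.FischerUniq91.Checks

variable {G : Type*} [Group G] [Finite G] {D : Set G}
variable {F : Type} [Field F] [Fintype F]

theorem J_add_left (M : Fin 6 → V) (v w x : V) : J M (v + w) x = J M v x + J M w x := by
  simp [J, sum6_eq, add_mul, Finset.sum_add_distrib]

theorem J_smul_left (M : Fin 6 → V) (c : K4) (v x : V) : J M (c • v) x = c * J M v x := by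
  simp [J, sum6_eq, Finset.mul_sum, mul_assoc]

theorem J_M1_e0 (v : V) : J M1 v e0 = v 5 := by
  simp [J, sum6, M1, e0, unit]

theorem lift_eq (k : Fin 45) (c : K4) : lift k c = u k + c • e0 := rfl

theorem lift_ne_e0 : ∀ (k : Fin 45) (c l : K4), l • lift k c ≠ e0 := by decide +kernel

variable {q : G} {C : Ctx D q F} (K : Coord C M1)

theorem P_lift_mem (k : Fin 45) (c : K4) :
    K.P (lift k c) ∈ perp D q ∧ Commute (K.P e0) (K.P (lift k c)) ∧ K.P (lift k c) ≠ K.P e0 := by
  obtain ⟨hi, -, h0⟩ := lift_ok k c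
  refine ⟨K.P_mem hi, ((K.P_comm hi e0_iso).2 h0).symm, fun h => ?_⟩
  obtain ⟨l, -, hl⟩ := (K.P_eq hi e0_iso).1 h
  exact lift_ne_e0 k c l hl.symm

/-- members commuting with the standard point lie in the fibres -/
theorem decomp {y : G} (hy : y ∈ perp D q) (hne : y ≠ K.P e0) (hc : Commute (K.P e0) y) :
    ∃ k c, y = K.P (lift k c) := by
  obtain ⟨v, hv, rfl⟩ := K.exists_P hy
  have h5 : v 5 = 0 := by rw [← J_M1_e0 v]; exact (K.P_comm hv e0_iso).1 hc.symm
  rcases fibre hv.1 h5 with hm | ⟨k, c, l, hl, rfl⟩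
  · exfalso
    have e : v = v 0 • e0 := by
      funext i
      fin_cases i <;> simp [e0, unit, hm.1, hm.2.1, hm.2.2.1, hm.2.2.2, h5]
    have h0 : v 0 ≠ 0 := fun h => hv.2 (by rw [e, h, zero_smul])
    exact hne (by rw [e, K.P_smul e0_iso h0])
  · exact ⟨k, c, K.P_smul (lift_ok k c).1 hl⟩

theorem lift_unique {k k' : Fin 45} {c c' : K4} (h : K.P (lift k c) = K.P (lift k' c')) :
    k = k' ∧ c = c' := by
  obtain ⟨l, -, hl⟩ := (K.P_eq (lift_ok k c).1 (lift_ok k' c').1).1 h
  exact lift_inj k k' c c' l hl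

/-- the common neighbours commuting with `p` -/
abbrev Tp (D : Set G) (a b p : G) : Set G := {y | y ∈ perp₂ D a b ∧ (y ≠ p ∧ Commute p y)}

variable (S : Sys D F) {a b p : G}

include S in
theorem Tp_closed {y z : G} (_hp : p ∈ perp₂ D a b) (hy : y ∈ Tp D a b p) (hz : z ∈ Tp D a b p) :
    y * z * y ∈ Tp D a b p := by
  have hyp : y * p * y = p := conj_fix_of_commute S.hD.1 hy.1.1.1 hy.2.2.symm
  refine ⟨(perp₂_closed S.hD a b).2 y hy.1 z hz.1, fun h => hz.2.1 ?_, ?_⟩
  · rw [← conj_self_inv S.hD.1 hy.1.1.1 z, h, hyp]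
  · rw [← hyp]
    exact (conj_comm_iff S.hD.1 hy.1.1.1).2 hz.2.2

include S in
/-- two points of one fibre commute alike, so coincide -/
theorem same_fibre (ha : a ∈ D) (hb : b ∈ D) (hab : ¬ Commute a b) (hp : p ∈ perp₂ D a b)
    (K : Coord (S.ctx a ha) M1) (hK : K.P e0 = p) {k : Fin 45} {c c' : K4}
    (h : K.P (lift k c) ∈ Tp D a b p) (h' : K.P (lift k c') ∈ Tp D a b p) : c = c' := by
  have hap : a ∈ perp D p := ⟨ha, Ne.symm hp.1.2.1, hp.1.2.2.symm⟩
  have hbp : b ∈ perp D p := ⟨hb, Ne.symm hp.2.2.1, hp.2.2.2.symm⟩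
  obtain ⟨e, f, hef, he0, hf0, hea, hfb⟩ := (S.ctx p hp.1.1).exists_hyp_pt hap hbp hab
  obtain ⟨K', hB0, hB5⟩ := exists_of_hyp (S.ctx p hp.1.1) hef
  have hA : K'.P e0 = a := by rw [Coord.P, e0, K'.L_unit, hB0, hea]
  have hB : K'.P (unit 5) = b := by rw [Coord.P, K'.L_unit, hB5, hfb]
  have h5 : Coord.Iso M1 (unit 5) := by decide +kernel
  have key : ∀ y ∈ Tp D a b p, ∃ k, y = K'.P (u k) := by
    intro y hy
    obtain ⟨k, d, rfl⟩ := decomp K' (⟨hy.1.1.1, hy.2.1, hy.2.2⟩ : y ∈ perp D p)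
      (by rw [hA]; exact hy.1.1.2.1) (by rw [hA]; exact hy.1.1.2.2)
    have hd : d = 0 := orth_f k d ((K'.P_comm (lift_ok k d).1 h5).1 (by rw [hB]; exact hy.1.2.2.2.symm))
    exact ⟨k, by rw [hd, lift_zero]⟩
  obtain ⟨m, hm⟩ := key _ h
  obtain ⟨m', hm'⟩ := key _ h'
  have hi : ∀ n, Coord.Iso M1 (u n) := fun n => by rw [← lift_zero]; exact (lift_ok n 0).1
  have hmm : m = m' := by
    refine separate m m' fun l => ?_
    obtain ⟨z1, z2, z3⟩ := P_lift_mem K' l 0
    rw [hA] at z2 z3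
    rw [← K'.P_comm (hi m) (hi l), ← K'.P_comm (hi m') (hi l), ← hm, ← hm']
    obtain ⟨w, hw, hwz⟩ := K.exists_P (⟨z1.1, z3, z2⟩ : K'.P (lift l 0) ∈ perp D a)
    have hzp : J M1 e0 w = 0 := by
      rw [← K.P_comm e0_iso hw, hK, hwz]
      exact z1.2.2
    rw [← lift_zero, ← hwz, K.P_comm (lift_ok k c).1 hw, K.P_comm (lift_ok k c').1 hw, lift_eq, lift_eq,
      J_add_left, J_add_left, J_smul_left, J_smul_left, hzp, mul_zero, mul_zero]
  exact (lift_unique K (hm.trans (hmm ▸ hm'.symm))).2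

include S in
/-- the neighbours of `p` form a section -/
theorem exists_section (ha : a ∈ D) (hb : b ∈ D) (hab : ¬ Commute a b) (hp : p ∈ perp₂ D a b)
    (K : Coord (S.ctx a ha) M1) (hK : K.P e0 = p) :
    ∃ s : Fin 45 → K4, (∀ k c, K.P (lift k c) ∈ Tp D a b p ↔ c = s k) ∧
      ∀ y ∈ Tp D a b p, ∃ k, y = K.P (lift k (s k)) := by
  classical
  have hdec : ∀ y : ↥(Tp D a b p), ∃ k c, y.1 = K.P (lift k c) := fun y =>
    decomp K y.2.1.1 (by rw [hK]; exact y.2.2.1) (by rw [hK]; exact y.2.2.2)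
  choose κ γ hκ using hdec
  have hinj : Function.Injective κ := by
    intro y y' h
    have h' : γ y = γ y' := by
      refine same_fibre S ha hb hab hp K hK (k := κ y) ?_ ?_
      · rw [← hκ]; exact y.2
      · rw [h, ← hκ]; exact y'.2
    exact Subtype.ext (by rw [hκ, hκ, h, h'])
  have hbij : Function.Bijective κ := (Nat.bijective_iff_injective_and_card κ).2
    ⟨hinj, by rw [Nat.card_coe_set_eq, S.ncard_trace_nbr ha hb hab hp, Nat.card_fin]⟩
  obtain ⟨σ, hσ⟩ : ∃ σ : Fin 45 → ↥(Tp D a b p), ∀ k, κ (σ k) = k :=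
    ⟨fun k => (hbij.2 k).choose, fun k => (hbij.2 k).choose_spec⟩
  have hmem : ∀ k, K.P (lift k (γ (σ k))) ∈ Tp D a b p := fun k => by
    have h := (σ k).2
    rw [hκ (σ k), hσ k] at h
    exact h
  refine ⟨fun k => γ (σ k), fun k c => ⟨fun hc => same_fibre S ha hb hab hp K hK hc (hmem k),
    fun h => h ▸ hmem k⟩, fun y hy => ⟨κ ⟨y, hy⟩, ?_⟩⟩
  show y = K.P (lift (κ ⟨y, hy⟩) (γ (σ (κ ⟨y, hy⟩))))
  rw [hinj (hσ (κ ⟨y, hy⟩)), ← hκ]

theorem run_sound (K : Coord C M1) {T : Set G} (hclosed : ∀ y ∈ T, ∀ z ∈ T, y * z * y ∈ T) (c : Fin 4) :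
    ∀ (l : List (ℕ × ℕ × ℕ)) (known known' : List (Fin 45)),
      (∀ k ∈ known, K.P (sec c k) ∈ T) → run c l known = some known' → ∀ k ∈ known', K.P (sec c k) ∈ T := by
  intro l
  induction l with
  | nil =>
    intro known known' h e
    rw [run, Option.some.injEq] at e
    exact e ▸ h
  | cons step l ih =>
    obtain ⟨i, j, k⟩ := step
    intro known known' h e
    rw [run] at e
    split_ifs at e with hs
    obtain ⟨hi, hj, x, hx, hconj⟩ := hs
    refine ih _ _ ?_ e
    intro m hm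
    rcases List.mem_cons.1 hm with rfl | hm
    · have hs : ∀ k, Coord.Iso M1 (sec c k) := fun k => (lift_ok k (sv c k)).1
      have := hclosed _ (h _ hi) _ (h _ hj)
      rwa [K.P_conj (hs _) (hs _),
        show tvI M1 (sec c (Fin.ofNat 45 i)) (sec c (Fin.ofNat 45 j)) = x • sec c (Fin.ofNat 45 k) from hconj,
        K.P_smul (hs _) hx] at this
    · exact h m hm

include S in
/-- coordinates in which the section is one of four -/
theorem exists_standard (ha : a ∈ D) (hb : b ∈ D) (hab : ¬ Commute a b) (hp : p ∈ perp₂ D a b) :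
    ∃ (K : Coord (S.ctx a ha) M1) (c : Fin 4), K.P e0 = p ∧
      ∀ y, y ∈ Tp D a b p ↔ ∃ k, y = K.P (sec c k) := by
  obtain ⟨e, he, he0, hep⟩ := (S.ctx a ha).exists_pt hp.1
  obtain ⟨f, hef⟩ := Cfsg.Agent.Lib.Unitary.exists_hyp (S.ctx a ha).hF he0 he
  obtain ⟨K, hB0, -⟩ := exists_of_hyp (S.ctx a ha) hef
  have hK : K.P e0 = p := by rw [Coord.P, e0, K.L_unit, hB0, hep]
  obtain ⟨s, hs, -⟩ := exists_section S ha hb hab hp K hK
  obtain ⟨hg, h0, hq⟩ := shift_ok (s (quad 0)) (s (quad 1)) (s (quad 2)) (s (quad 3))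
  set K' := K.change _ M1 M1 hg isInv_M1
  have hK' : K'.P e0 = p := by rw [K.change_P, h0, hK]
  obtain ⟨s', hs', hall⟩ := exists_section S ha hb hab hp K' hK'
  have hq0 : ∀ i : Fin 4, s' (quad i) = 0 := by
    intro i
    refine ((hs' _ 0).1 ?_).symm
    rw [K.change_P, hq, zero_add]
    refine (hs _ _).2 ?_
    fin_cases i <;> rfl
  let c : Fin 4 := ⟨enc (s' fifth), by cases s' fifth <;> decide⟩
  have hstart : ∀ k ∈ start, K'.P (sec c k) ∈ Tp D a b p := by
    intro k hk
    refine (hs' _ _).2 ?_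
    simp only [start, List.mem_cons, List.not_mem_nil, or_false] at hk
    rcases hk with rfl | rfl | rfl | rfl | rfl
    all_goals first
      | rw [hq0, sv_quad]
      | exact sv_fifth (s' fifth)
  obtain ⟨known, hknown, hfull⟩ := run_ok c
  simp only [Option.mem_toList] at hknown
  have hsv : ∀ k, sv c k = s' k := fun k => (hs' k _).1
    (run_sound K' (fun y hy z hz => Tp_closed S hp hy hz) c _ _ _ hstart hknown k (hfull k))
  refine ⟨K', c, hK', fun y => ⟨fun hy => ?_, ?_⟩⟩
  · obtain ⟨k, rfl⟩ := hall y hy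
    exact ⟨k, by rw [sec, hsv]⟩
  · rintro ⟨k, rfl⟩
    exact (hs' _ _).2 (hsv k)

include S in
/-- the members off the polar of `p`: eighty, and each neighbour of `p` commutes with 32 -/
theorem outer_rows (ha : a ∈ D) (hb : b ∈ D) (hab : ¬ Commute a b) (hp : p ∈ perp₂ D a b) :
    {x | x ∈ perp₂ D a b ∧ ¬ Commute p x}.ncard = 80 ∧
      ∀ y ∈ Tp D a b p, {x | (x ∈ perp₂ D a b ∧ ¬ Commute p x) ∧ Commute x y}.ncard = 32 := by
  have h126 := ncard_trace S ha hb hab
  constructor
  · have hsplit : perp₂ D a b = insert p ({x | x ∈ perp₂ D a b ∧ ¬ Commute p x} ∪ Tp D a b p) := by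
      ext x
      constructor
      · intro hx
        by_cases h : x = p
        · exact Or.inl h
        by_cases hc : Commute p x
        · exact Or.inr (Or.inr ⟨hx, h, hc⟩)
        · exact Or.inr (Or.inl ⟨hx, hc⟩)
      · rintro (rfl | h | h)
        exacts [hp, h.1, h.1]
    rw [hsplit, Set.ncard_insert_of_notMem (by
      rintro (h | h)
      · exact h.2 (Commute.refl p)
      · exact h.2.1 rfl), Set.ncard_union_eq (Set.disjoint_left.mpr fun y h h' => h.2 h'.2.2),
      S.ncard_trace_nbr ha hb hab hp] at h126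
    omega
  · intro y hy'
    have h45 := S.ncard_trace_nbr ha hb hab hy'.1
    have hap : a ∈ perp D p := ⟨ha, Ne.symm hp.1.2.1, hp.1.2.2.symm⟩
    have hbp : b ∈ perp D p := ⟨hb, Ne.symm hp.2.2.1, hp.2.2.2.symm⟩
    have h12 := (S.ctx p hp.1.1).ncard_nonedge_point hap hbp hab
      (⟨hy'.1.1.1, hy'.2.1, hy'.2.2⟩ : y ∈ perp D p) hy'.1.1.2.2 hy'.1.2.2.2
    have hsplit : {z | z ∈ perp₂ D a b ∧ (z ≠ y ∧ Commute y z)} =
        insert p ({z | z ∈ perp D p ∧ (z ≠ y ∧ Commute a z ∧ Commute b z ∧ Commute y z)} ∪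
          {x | (x ∈ perp₂ D a b ∧ ¬ Commute p x) ∧ Commute x y}) := by
      ext z
      constructor
      · rintro ⟨hz, hzy, hyz⟩
        by_cases h : z = p
        · exact Or.inl h
        by_cases hc : Commute p z
        · exact Or.inr (Or.inl ⟨⟨hz.1.1, h, hc⟩, hzy, hz.1.2.2, hz.2.2.2, hyz⟩)
        · exact Or.inr (Or.inr ⟨⟨hz, hc⟩, hyz.symm⟩)
      · rintro (rfl | h | h)
        · exact ⟨hp, Ne.symm hy'.2.1, hy'.2.2.symm⟩
        · refine ⟨⟨⟨h.1.1, fun e => hab ?_, h.2.2.1⟩, h.1.1, fun e => hab ?_, h.2.2.2.1⟩, h.2.1, h.2.2.2.2⟩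
          · rw [e] at h; exact h.2.2.2.1.symm
          · rw [e] at h; exact h.2.2.1
        · exact ⟨h.1.1, fun e => h.1.2 (e ▸ hy'.2.2), h.2.symm⟩
    rw [hsplit, Set.ncard_insert_of_notMem (by
      rintro (h | h)
      · exact h.1.2.1 rfl
      · exact h.1.2 (Commute.refl _)), Set.ncard_union_eq (Set.disjoint_left.mpr fun z h h' => h'.1.2 h.1.2.2),
      h12] at h45
    omega

include S in
/-- six common neighbours forming a path -/
theorem exists_path (ha : a ∈ D) (hb : b ∈ D) (hab : ¬ Commute a b) :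
    ∃ w : Fin 6 → G, (∀ i, w i ∈ perp₂ D a b) ∧
      ∀ i j : Fin 6, Commute (w i) (w j) ↔ ¬ (i.1 + 1 = j.1 ∨ j.1 + 1 = i.1) := by
  classical
  have h126 := ncard_trace S ha hb hab
  obtain ⟨p, hp⟩ : (perp₂ D a b).Nonempty := Set.nonempty_of_ncard_ne_zero (by omega)
  obtain ⟨K, c, hK, hTp⟩ := exists_standard S ha hb hab hp
  by_contra hcon
  -- the members off the polar of `p`
  set X := (Set.toFinite {x | x ∈ perp₂ D a b ∧ ¬ Commute p x}).toFinset with hX
  set Y := (Set.toFinite (Tp D a b p)).toFinset with hY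
  have hXm : ∀ x, x ∈ X ↔ x ∈ perp₂ D a b ∧ ¬ Commute p x := fun x => Set.Finite.mem_toFinset _
  have hYm : ∀ y, y ∈ Y ↔ y ∈ Tp D a b p := fun y => Set.Finite.mem_toFinset _
  have hYcard : Y.card = 45 := by
    rw [← Set.ncard_eq_toFinset_card]; exact S.ncard_trace_nbr ha hb hab hp
  obtain ⟨h80, h32⟩ := outer_rows S ha hb hab hp
  have hXcard : X.card = 80 := by
    rw [← Set.ncard_eq_toFinset_card]; exact h80
  -- each neighbour of `p` commutes with 32 of them
  have hrowY : ∀ y ∈ Y, (X.filter fun x => Commute x y).card = 32 := by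
    intro y hy
    rw [← h32 y ((hYm y).1 hy), ← Set.ncard_coe_finset]
    congr 1
    ext x
    simp only [Finset.coe_filter, hXm, Set.mem_ofPred_eq]
  -- each of them commutes with few
  set E := ((exc c).map fun n => K.P (vec n)).toFinset with hE
  have hEcard : E.card ≤ 2 := (List.toFinset_card_le _).trans (by rw [List.length_map]; exact exc_len c)
  have hrowX : ∀ x ∈ X, (Y.filter fun y => Commute x y).card ≤ if x ∈ E then 45 else 9 := by
    intro x hx
    have hx' := (hXm x).1 hx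
    split_ifs with hxE
    · exact (Finset.card_filter_le _ _).trans hYcard.le
    obtain ⟨v, hv, rfl⟩ := K.exists_P hx'.1.1
    have h5 : v 5 ≠ 0 := fun h => hx'.2 (by
      rw [← hK]
      exact ((K.P_comm hv e0_iso).2 (by rw [J_M1_e0, h])).symm)
    have hi : (v 5)⁻¹ ≠ 0 := inv_ne_zero h5
    have hn : code ((v 5)⁻¹ • v) ∈ Data.outs := by
      refine outer_code ⟨_, code_lt _⟩ ?_ ?_
      · rw [vec_code, ← J_M1]
        refine K.ι.injective ?_
        rw [← K.herm, K.L_smul, map_zero, Cfsg.Agent.Lib.Unitary.herm_smul_left,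
          Cfsg.Agent.Lib.Unitary.herm_smul_right, K.herm, hv.1, map_zero, mul_zero, mul_zero]
      · rw [vec_code]; simp [h5]
    have hiso' := (outer_iso _ hn).1
    have hP : K.P (vec (code ((v 5)⁻¹ • v))) = K.P v := by rw [vec_code, K.P_smul hv hi]
    rcases good c hn with ⟨w, hpath⟩ | htr | hex
    · exfalso
      refine hcon ⟨fun j => K.P (pathAt c (code ((v 5)⁻¹ • v)) w j), fun j => ?_, fun j j' => ?_⟩
      · show K.P (pathAt c (code ((v 5)⁻¹ • v)) w j) ∈ perp₂ D a b
        unfold pathAt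
        split_ifs
        · rw [hK]; exact hp
        · rw [hP]; exact hx'.1
        · exact ((hTp _).2 ⟨_, rfl⟩).1
      · have hiso : ∀ j, Coord.Iso M1 (pathAt c (code ((v 5)⁻¹ • v)) w j) := fun j => by
          unfold pathAt
          split_ifs
          exacts [e0_iso, hiso', (lift_ok _ _).1]
        rw [K.P_comm (hiso j) (hiso j'), J_M1]
        exact hpath j j'
    · refine le_trans ?_ htr
      have hsub : (Y.filter fun y => Commute (K.P v) y) ⊆
          ((List.finRange 45).filter fun k => decide (J1 (vec (code ((v 5)⁻¹ • v))) (sec c k) = 0)).toFinset.image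
            fun k => K.P (sec c k) := by
        intro y hy
        rw [Finset.mem_filter, hYm, hTp] at hy
        obtain ⟨⟨k, rfl⟩, hc⟩ := hy
        rw [← hP] at hc
        refine Finset.mem_image.2 ⟨k, ?_, rfl⟩
        refine List.mem_toFinset.2 (List.mem_filter.2 ⟨List.mem_finRange k, decide_eq_true ((J_M1 _ _).symm.trans ((K.P_comm hiso' (lift_ok k (sv c k)).1).1 hc))⟩)
      refine (Finset.card_le_card hsub).trans (Finset.card_image_le.trans ((List.toFinset_card_le _).trans ?_))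
      rw [trace, List.countP_eq_length_filter]
    · refine absurd ?_ hxE
      rw [hE, List.mem_toFinset, List.mem_map]
      exact ⟨_, hex, hP⟩
  have h1 : ∑ x ∈ X, (Y.filter fun y => Commute x y).card = ∑ y ∈ Y, (X.filter fun x => Commute x y).card := by
    simp only [Finset.card_filter]
    exact Finset.sum_comm
  rw [Finset.sum_eq_card_nsmul hrowY, smul_eq_mul, hYcard] at h1
  have h2 := Finset.sum_le_sum hrowX
  rw [Finset.sum_ite, Finset.sum_const, Finset.sum_const, h1, smul_eq_mul, smul_eq_mul] at h2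
  have h3 : (X.filter fun x => x ∈ E).card ≤ 2 :=
    (Finset.card_le_card fun x hx => (Finset.mem_filter.1 hx).2).trans hEcard
  have h4 : (X.filter fun x => x ∉ E).card ≤ 80 := (Finset.card_filter_le _ _).trans hXcard.le
  omega

end Cfsg.Agent.Lib.FischerUniq91.Trace
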