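import Cfsg.Agent.Lib.Fi22Mult.Facts
import Cfsg.Agent.Lib.FischerUniq91.Aff.Enum

/-!
Seven transpositions forming the diagram Y222 in which the product of b with the highest root of
the other six has order three: the tenth power of the spider word commutes with all seven and its
cube is one.  Both are read off the table of 729 cosets of the Weyl group of type E6, which maps
injectively into Fi22.
-/

set_option autoImplicit false
set_option maxRecDepth 20000

namespace Cfsg.Agent.Lib.FischerUniq91.AffHom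

open Cfsg.Spor
open Cfsg.Agent.Lib.CosetEnum
open Cfsg.Agent.Lib.Coxeter Cfsg.Agent.Lib.Coxeter.WeylOrder
open Cfsg.Agent.Lib.Fi22Mult

/-- The highest root as a word. -/
def theta : List Y222.Gen :=
  [.c, .d, .h, .i, .e, .d, .h, .f, .e, .d, .c, .d, .e, .f, .h, .d, .e, .i, .h, .d, .c]

/-- the group -/
abbrev A : Type := PresentedGroup Aff.pres

/-- its generators -/
def of (x : Y222.Gen) : A := PresentedGroup.of x

theorem extra_eq : AffPres.extra = [word (List.replicate 3 (Y222.Gen.b :: theta)).flatten] := by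
  decide +kernel

theorem rels_of {Γ : Type*} [Group Γ] (F : Y222.Gen → Γ)
    (hcox : ∀ x y, (F x * F y) ^ coxLabel Y222.edges x y = 1) (hθ : (F .b * wp F theta) ^ 3 = 1) :
    ∀ r ∈ Aff.pres, FreeGroup.lift F r = 1 := by
  rintro r (⟨x, -, y, -, rfl⟩ | hr)
  · rw [map_pow, map_mul, FreeGroup.lift_apply_of, FreeGroup.lift_apply_of]
    exact hcox x y
  · rw [Set.mem_ofPred_eq, extra_eq, List.mem_singleton] at hr
    subst hr
    rw [lift_word, wp_replicate, wp_cons, hθ]

theorem cox_of : ∀ x y, (of x * of y) ^ coxLabel Y222.edges x y = 1 := by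
  intro x y
  have hnode : ∀ x : Y222.Gen, x ∈ coxNodes Y222.edges := fun x => by cases x <;> decide
  have := PresentedGroup.one_of_mem (rels := Aff.pres) (Or.inl ⟨x, hnode x, y, hnode y, rfl⟩)
  rw [map_pow, map_mul] at this
  exact this

theorem rels₂₂ : ∀ r ∈ Aff.pres, FreeGroup.lift (fun x => gen₂₂ (node₇ x)) r = 1 := by
  refine rels_of _ (fun x y => by rw [label₇]; exact covers₂₂.cox _ _) ?_
  obtain ⟨ρ, hinj, hρ⟩ := exists_faithful
  have e : gen₂₂ (node₇ .b) * wp (fun x => gen₂₂ (node₇ x)) theta =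
      (([1, 2, 3, 7, 8, 4, 3, 7, 5, 4, 3, 2, 3, 4, 5, 7, 3, 4, 8, 7, 3, 2] : List ℕ).map (Fi22x3510.letters.phi _)).prod := by
    rw [← wp_cons (fun x => gen₂₂ (node₇ x)) Y222.Gen.b theta]
    simp only [wp, theta, List.map_cons, List.map_nil, gen₂₂_eq]
    rfl
  rw [e]
  exact pow_eq_one_of_table Fi22x3510.letters _ ρ hρ hinj _ (by decide +kernel) 3 (by decide +kernel)

/-- the map to Fi22 -/
def to22 : A →* Cfsg.Spor.Fi22 := PresentedGroup.toGroup rels₂₂

theorem to22_wp (l : List Y222.Gen) : to22 (wp of l) = wp gen₂₂ (l.map node₇) := by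
  rw [map_wp, wp_map]
  exact congrArg (fun F => wp F l) (funext fun x => PresentedGroup.toGroup.of rels₂₂)

/-- the index of a node of the Weyl group -/
def idx : Fin 6 → Y222.Gen := ![.b, .h, .c, .d, .e, .f]

theorem node_idx : ∀ i, node₇ (idx i) = idx₆ i := by intro i; fin_cases i <;> rfl

theorem liftable : CoxeterMatrix.IsLiftable CoxeterMatrix.E₆ fun i => of (idx i) := by
  intro i j
  rw [matrix₆, ← node_idx, ← node_idx, ← label₇]
  exact cox_of _ _

/-- the Weyl group of type E6 inside -/
noncomputable def weyl : CoxeterMatrix.E₆.Group →* A :=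
  CoxeterMatrix.E₆.toCoxeterSystem.lift ⟨_, liftable⟩

theorem to22_weyl : to22.comp weyl = proj.comp weyl₆ := by
  refine CoxeterMatrix.E₆.toCoxeterSystem.ext_simple fun i => ?_
  rw [MonoidHom.comp_apply, MonoidHom.comp_apply, weyl, weyl₆]
  erw [CoxeterMatrix.E₆.toCoxeterSystem.lift_apply_simple liftable i,
    CoxeterMatrix.E₆.toCoxeterSystem.lift_apply_simple liftable₆ i]
  rw [show proj (gen (idx₆ i)) = gen₂₂ (idx₆ i) from covers₂₂.hom_gen _, ← node_idx]
  exact PresentedGroup.toGroup.of rels₂₂

/-- a word returning to the first coset and trivial in Fi22 is trivial -/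
theorem trivial_of_scan (l : List Y222.Gen)
    (hscan : scan Aff.letters.K Aff.table (l.map Aff.letters.col) 0 = 0)
    (h22 : wp gen₂₂ (l.map node₇) = 1) : wp of l = 1 := by
  obtain ⟨ρ, hρ, hst, -⟩ := Aff.enum.action
  have hlt : ∀ g ∈ l.map Aff.letters.col, g < Aff.letters.K := by
    intro g hg
    obtain ⟨x, -, rfl⟩ := List.mem_map.1 hg
    cases x <;> decide +kernel
  have hmem : ((l.map Aff.letters.col).map (Aff.letters.phi Aff.pres)).prod ∈
      subOf Aff.letters Aff.pres Aff.subWords := by
    have h := rho_scan Aff.letters _ ρ hρ _ hlt ⟨0, by omega⟩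
    rw [hscan] at h
    rw [hst]
    exact (Equiv.Perm.inv_eq_iff_eq.1 (Fin.ext h)).symm
  have hof : ∀ x, Aff.letters.phi Aff.pres (Aff.letters.col x) = of x := fun x =>
    Letters.phi_col Aff.table_ok.col x
  have h1 : ((l.map Aff.letters.col).map (Aff.letters.phi Aff.pres)).prod = wp of l := by
    rw [List.map_map]
    unfold wp
    congr 1
    exact List.map_congr_left fun x _ => hof x
  rw [h1] at hmem
  have h2 : wp of l ∈ weyl.range := by
    refine (?_ : subOf Aff.letters Aff.pres Aff.subWords ≤ weyl.range) hmem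
    rw [subOf, Subgroup.closure_le]
    rintro _ ⟨w, hw, rfl⟩
    have hg : ∀ i : Fin 6, of (idx i) ∈ weyl.range := fun i =>
      ⟨CoxeterMatrix.E₆.simple i, CoxeterMatrix.E₆.toCoxeterSystem.lift_apply_simple liftable i⟩
    simp only [Aff.subWords, List.mem_cons, List.not_mem_nil, or_false] at hw
    rcases hw with rfl | rfl | rfl | rfl | rfl | rfl <;>
      rw [SetLike.mem_coe, List.map_cons, List.map_nil, List.prod_cons, List.prod_nil, mul_one]
    · rw [show (0 : ℕ) = Aff.letters.col .b from rfl, hof]; exact hg 0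
    · rw [show (1 : ℕ) = Aff.letters.col .c from rfl, hof]; exact hg 2
    · rw [show (2 : ℕ) = Aff.letters.col .d from rfl, hof]; exact hg 3
    · rw [show (3 : ℕ) = Aff.letters.col .e from rfl, hof]; exact hg 4
    · rw [show (4 : ℕ) = Aff.letters.col .f from rfl, hof]; exact hg 5
    · rw [show (5 : ℕ) = Aff.letters.col .h from rfl, hof]; exact hg 1
  obtain ⟨w, hw⟩ := h2
  have hw1 : proj.comp weyl₆ w = proj.comp weyl₆ 1 := by
    rw [map_one, ← to22_weyl, MonoidHom.comp_apply, hw, to22_wp, h22]
  rw [← hw, weyl₆_injective hw1, map_one]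

theorem scans : scan Aff.letters.K Aff.table
    ((List.replicate 3 spider₇).flatten.map Aff.letters.col) 0 = 0 ∧
    ∀ x ∈ [Y222.Gen.b, .c, .d, .e, .f, .h, .i], scan Aff.letters.K Aff.table
      ((spider₇ ++ [x] ++ spider₇.reverse ++ [x]).map Aff.letters.col) 0 = 0 := by
  decide +kernel

/-- the spider on seven elements -/
theorem spider_facts {Γ : Type*} [Group Γ] (F : Y222.Gen → Γ)
    (hcox : ∀ x y, (F x * F y) ^ coxLabel Y222.edges x y = 1) (hθ : (F .b * wp F theta) ^ 3 = 1) :
    wp F spider₇ ^ 3 = 1 ∧ ∀ x, Commute (wp F spider₇) (F x) := by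
  let ψ : A →* Γ := PresentedGroup.toGroup (rels_of F hcox hθ)
  have hψ : ∀ l, ψ (wp of l) = wp F l := fun l => by
    rw [map_wp]
    congr 1
    funext x
    exact PresentedGroup.toGroup.of (rels_of F hcox hθ)
  have hinvF : ∀ x, F x * F x = 1 := fun x => by
    have := hcox x x
    rwa [coxLabel, if_pos rfl, pow_one] at this
  have hsp : wp gen₂₂ (spider₇.map node₇) = 1 := by rw [node₇_spider]; exact words₂₂.1
  constructor
  · rw [← wp_replicate, ← hψ, trivial_of_scan _ scans.1 ?_, map_one]
    rw [List.map_flatten, List.map_replicate, wp_replicate, hsp, one_pow]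
  · intro x
    have h := congrArg ψ (trivial_of_scan (spider₇ ++ [x] ++ spider₇.reverse ++ [x])
      (scans.2 x (by cases x <;> simp)) ?_)
    · rw [map_one, hψ, wp_append, wp_append, wp_append, wp_reverse hinvF, wp_cons, wp_nil, mul_one,
        mul_eq_one_iff_eq_inv, mul_inv_eq_iff_eq_mul, inv_eq_of_mul_eq_one_right (hinvF x)] at h
      exact h
    · rw [List.map_append, List.map_append, List.map_append, List.map_reverse, wp_append, wp_append,
        wp_append, wp_reverse covers₂₂.invol, hsp, inv_one, List.map_cons, List.map_nil, wp_cons,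
        wp_nil]
      simp [covers₂₂.invol]

end Cfsg.Agent.Lib.FischerUniq91.AffHom
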