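import Cfsg.Agent.Lib.Fi22Mult.Y222

/-! The graph Y222 with the relation making the affine translations of order three. -/

set_option autoImplicit false

namespace Cfsg.Agent.Lib.FischerUniq91.AffPres

open Cfsg.Agent.Lib.Fi22Mult.Y222 (w)

/-- Seven nodes. -/
abbrev Gen : Type := Cfsg.Agent.Lib.Fi22Mult.Y222.Gen

/-- The graph. -/
abbrev edges : List (Gen × ℕ × Gen) := Cfsg.Agent.Lib.Fi22Mult.Y222.edges

/-- The word of the highest root of the six nodes other than b. -/
abbrev theta : FreeGroup Gen :=
  w .c * w .d * w .h * w .i * w .e * w .d * w .h * w .f * w .e * w .d * w .c * w .d * w .e * w .f * w .h * w .d * w .e * w .i * w .h * w .d * w .c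

/-- The product of b and the highest root has order dividing three. -/
def extra : List (FreeGroup Gen) := [(w .b * theta) ^ 3]

end Cfsg.Agent.Lib.FischerUniq91.AffPres
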