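import Cfsg.Agent.Lib.FischerUniq91.Data

/-!
Computations on the 693 isotropic points: fibres over an isotropic point, sections, paths.
-/

set_option autoImplicit false
set_option maxRecDepth 100000
set_option Elab.async false

namespace Cfsg.Agent.Lib.FischerUniq91.Checks

open Cfsg.Agent.Lib.G24 (K4)
open Cfsg.Agent.Lib.FischerUniq91.Coord

/-- the standard isotropic point -/
def e0 : V := unit 0

/-- the middle part of fibre `k` -/
def u (k : Fin 45) : V := vec (Data.mids.getD k.1 0)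

/-- a point of fibre `k` -/
def lift (k : Fin 45) (c : K4) : V := fun i => u k i + c * e0 i

/-- the value of section `c` at fibre `k` -/
def sv (c : Fin 4) (k : Fin 45) : K4 := dec ((Data.sections.getD c.1 []).getD k.1 0 % 4)

/-- the point of section `c` at fibre `k` -/
def sec (c : Fin 4) (k : Fin 45) : V := lift k (sv c k)

/-- the four normalised fibres -/
def quad (i : Fin 4) : Fin 45 := Fin.ofNat 45 (Data.quad.getD i.1 0)

/-- the fifth fibre -/
def fifth : Fin 45 := Fin.ofNat 45 Data.fifth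

/-- the form of a hyperbolic pair and an orthonormal complement, written out -/
def J1 (v w : V) : K4 :=
  v 0 * (w 5 * w 5) + v 5 * (w 0 * w 0) + v 1 * (w 1 * w 1) + v 2 * (w 2 * w 2) + v 3 * (w 3 * w 3) +
    v 4 * (w 4 * w 4)

theorem J_M1 (v w : V) : J M1 v w = J1 v w := by
  simp [J, J1, sum6, M1]
  abel

theorem e0_iso : Coord.Iso M1 e0 := by decide +kernel

theorem lift_ok : ∀ k c, Coord.Iso M1 (lift k c) ∧ lift k c 5 = 0 ∧ J M1 (lift k c) e0 = 0 := by
  simp only [Coord.Iso, J_M1]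
  decide +kernel

theorem lift_zero : ∀ k, lift k 0 = u k := by decide +kernel

/-- `v` is a multiple of a point of some fibre -/
def InFibre (v : V) : Prop := ∃ k : Fin 45, ∃ c : K4, ∃ l : K4, l ≠ 0 ∧ v = l • lift k c

/-- the middle part of `v` vanishes -/
def MidZero (v : V) : Prop := v 1 = 0 ∧ v 2 = 0 ∧ v 3 = 0 ∧ v 4 = 0

instance instDecidableInFibre (v : V) : Decidable (InFibre v) :=
  inferInstanceAs (Decidable (∃ k : Fin 45, ∃ c : K4, ∃ l : K4, l ≠ 0 ∧ v = l • lift k c))

instance instDecidableMidZero (v : V) : Decidable (MidZero v) :=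
  inferInstanceAs (Decidable (_ ∧ _ ∧ _ ∧ _))

theorem mid_code : ∀ a b c d : K4, ¬ (a = 0 ∧ b = 0 ∧ c = 0 ∧ d = 0) →
    a * (a * a) + b * (b * b) + c * (c * c) + d * (d * d) = 0 →
      ∃ k : Fin 45, ∃ l : K4, l ≠ 0 ∧ a = l * u k 1 ∧ b = l * u k 2 ∧ c = l * u k 3 ∧ d = l * u k 4 := by
  decide +kernel

theorem u_ends : ∀ k, u k 0 = 0 ∧ u k 5 = 0 := by decide +kernel

theorem fibre {v : V} (hv : J M1 v v = 0) (h5 : v 5 = 0) : MidZero v ∨ InFibre v := by
  by_cases hm : MidZero v
  · exact Or.inl hm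
  rw [J_M1, J1, h5] at hv
  obtain ⟨k, l, hl, h1, h2, h3, h4⟩ := mid_code (v 1) (v 2) (v 3) (v 4) hm (by simpa using hv)
  refine Or.inr ⟨k, l⁻¹ * v 0, l, hl, funext fun i => ?_⟩
  obtain ⟨e1, e2⟩ := u_ends k
  fin_cases i <;> simp [lift, e0, unit, h1, h2, h3, h4, h5, e1, e2, mul_inv_cancel_left₀ hl]

theorem mid_inj : ∀ k k' : Fin 45, ∀ l : K4,
    (u k' 1 = l * u k 1 ∧ u k' 2 = l * u k 2 ∧ u k' 3 = l * u k 3 ∧ u k' 4 = l * u k 4) →
      k = k' ∧ l = 1 := by
  decide +kernel

theorem lift_inj (k k' : Fin 45) (c c' l : K4) (h : lift k' c' = l • lift k c) : k = k' ∧ c = c' := by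
  have h' : ∀ i, lift k' c' i = l * lift k c i := fun i => congrFun h i
  obtain ⟨rfl, rfl⟩ := mid_inj k k' l ⟨by simpa [lift, e0, unit] using h' 1,
    by simpa [lift, e0, unit] using h' 2, by simpa [lift, e0, unit] using h' 3,
    by simpa [lift, e0, unit] using h' 4⟩
  exact ⟨rfl, by simpa [lift, e0, unit, (u_ends k).1] using (h' 0).symm⟩

theorem separate : ∀ k k' : Fin 45,
    (∀ l : Fin 45, J M1 (u k) (u l) = 0 ↔ J M1 (u k') (u l) = 0) → k = k' := by
  simp only [J_M1]
  decide +kernel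

theorem orth_f : ∀ k c, J M1 (lift k c) (unit 5) = 0 → c = 0 := by
  simp only [J_M1]
  decide +kernel

/-- the coefficients moving given values at the four fibres to zero -/
def alpha (c0 c1 c2 c3 : K4) (k : ℕ) : K4 :=
  let g : ℕ → K4 := fun i => dec ((Data.quadInv.getD k []).getD i 0)
  g 0 * c0 + g 1 * c1 + g 2 * c2 + g 3 * c3

/-- the change of coordinates with given coefficients -/
def shiftA (a0 a1 a2 a3 : K4) : Fin 6 → V :=
  let nz : K4 → K4 := fun a => if a = 0 then 0 else 1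
  let al : ℕ → K4 := fun k => if k = 0 then a0 else if k = 1 then a1 else if k = 2 then a2 else a3
  fun i k =>
    if i.1 = 0 then (if k.1 = 0 then 1 else 0)
    else if i.1 = 5 then
      (if k.1 = 0 then K4.w * (nz a0 + nz a1 + nz a2 + nz a3) else if k.1 = 5 then 1
        else al (k.1 - 1) * al (k.1 - 1))
    else (if k = i then 1 else if k.1 = 0 then al (i.1 - 1) else 0)

/-- the change of coordinates moving given values at the four fibres to zero -/
def shift (c0 c1 c2 c3 : K4) : Fin 6 → V :=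
  shiftA (alpha c0 c1 c2 c3 0) (alpha c0 c1 c2 c3 1) (alpha c0 c1 c2 c3 2) (alpha c0 c1 c2 c3 3)

/-- four values as a function -/
def val4 (c0 c1 c2 c3 : K4) (i : Fin 4) : K4 :=
  if i.1 = 0 then c0 else if i.1 = 1 then c1 else if i.1 = 2 then c2 else c3

theorem shiftA_ok : ∀ a0 a1 a2 a3 : K4,
    (∀ i j : Fin 6, J M1 (shiftA a0 a1 a2 a3 i) (shiftA a0 a1 a2 a3 j) = M1 i j) ∧
      comb (shiftA a0 a1 a2 a3) e0 = e0 := by
  simp only [J_M1]
  decide +kernel

theorem shift_quad : ∀ c0 c1 c2 c3 : K4, ∀ i : Fin 4,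
    alpha c0 c1 c2 c3 0 * u (quad i) 1 + alpha c0 c1 c2 c3 1 * u (quad i) 2 +
      alpha c0 c1 c2 c3 2 * u (quad i) 3 + alpha c0 c1 c2 c3 3 * u (quad i) 4 = val4 c0 c1 c2 c3 i := by
  decide +kernel

theorem shift_ok (c0 c1 c2 c3 : K4) :
    (∀ i j : Fin 6, J M1 (shift c0 c1 c2 c3 i) (shift c0 c1 c2 c3 j) = M1 i j) ∧
      comb (shift c0 c1 c2 c3) e0 = e0 ∧
      ∀ i : Fin 4, ∀ c : K4,
        comb (shift c0 c1 c2 c3) (lift (quad i) c) = lift (quad i) (c + val4 c0 c1 c2 c3 i) := by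
  refine ⟨(shiftA_ok _ _ _ _).1, (shiftA_ok _ _ _ _).2, fun i c => funext fun k => ?_⟩
  obtain ⟨e1, e2⟩ := u_ends (quad i)
  rw [← shift_quad c0 c1 c2 c3 i]
  fin_cases k <;> simp [comb, sum6, shift, shiftA, lift, e0, unit, e1, e2]
  ring

theorem sv_quad : ∀ c : Fin 4, ∀ i : Fin 4, sv c (quad i) = 0 := by decide +kernel

theorem sv_fifth : ∀ x : K4, sv ⟨enc x, by cases x <;> decide⟩ fifth = x := by decide +kernel

/-- the fibres known after the steps -/
def run (c : Fin 4) : List (ℕ × ℕ × ℕ) → List (Fin 45) → Option (List (Fin 45))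
  | [], known => some known
  | (i, j, k) :: rest, known =>
    if Fin.ofNat 45 i ∈ known ∧ Fin.ofNat 45 j ∈ known ∧
        (∃ l : K4, l ≠ 0 ∧ tvI M1 (sec c (Fin.ofNat 45 i)) (sec c (Fin.ofNat 45 j)) =
          l • sec c (Fin.ofNat 45 k)) then
      run c rest (Fin.ofNat 45 k :: known)
    else none

/-- the starting fibres -/
def start : List (Fin 45) := [quad 0, quad 1, quad 2, quad 3, fifth]

theorem run_ok : ∀ c : Fin 4, ∃ k ∈ (run c (Data.steps.getD c.1 []) start).toList,
    ∀ x : Fin 45, x ∈ k := by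
  decide +kernel

theorem outer_code : ∀ n : Fin 4096, J1 (vec n.1) (vec n.1) = 0 → vec n.1 5 = 1 → n.1 ∈ Data.outs := by
  decide +kernel

theorem outer_iso : ∀ n ∈ Data.outs, Coord.Iso M1 (vec n) ∧ J M1 (vec n) e0 ≠ 0 := by
  simp only [Coord.Iso, J_M1]
  decide +kernel

/-- the candidate path at the point `n` with four further fibres `w` -/
def pathAt (c : Fin 4) (n : ℕ) (w : List ℕ) (i : Fin 6) : V :=
  if i.1 = 0 then e0 else if i.1 = 1 then vec n
  else sec c (Fin.ofNat 45 (w.getD (i.1 - 2) 0))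

/-- the number of section points orthogonal to `n` -/
def trace (c : Fin 4) (n : ℕ) : ℕ :=
  (List.finRange 45).countP fun k => decide (J1 (vec n) (sec c k) = 0)

/-- the pattern of a path -/
def IsPath (c : Fin 4) (n : ℕ) (w : List ℕ) : Prop :=
  ∀ i j : Fin 6, J1 (pathAt c n w i) (pathAt c n w j) = 0 ↔ ¬ (i.1 + 1 = j.1 ∨ j.1 + 1 = i.1)

instance instDecidableIsPath (c : Fin 4) (n : ℕ) (w : List ℕ) : Decidable (IsPath c n w) :=
  inferInstanceAs (Decidable (∀ i j : Fin 6, _))

/-- exceptional outer points -/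
def exc (c : Fin 4) : List ℕ := Data.exceptional.getD c.1 []

theorem exc_len : ∀ c, (exc c).length ≤ 2 := by decide +kernel

/-- one outer point is fine -/
def okAt (c : Fin 4) (e : ℕ × List ℕ) : Bool :=
  decide (IsPath c e.1 e.2 ∨ trace c e.1 ≤ 9 ∨ e.1 ∈ exc c)

theorem good0 : (Data.outs.zip Data.paths0).all (okAt 0) = true := by decide +kernel

theorem good1 : (Data.outs.zip Data.paths1).all (okAt 1) = true := by decide +kernel

theorem good2 : (Data.outs.zip Data.paths2).all (okAt 2) = true := by decide +kernel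

theorem good3 : (Data.outs.zip Data.paths3).all (okAt 3) = true := by decide +kernel

theorem paths_len : Data.paths0.length = Data.outs.length ∧ Data.paths1.length = Data.outs.length ∧
    Data.paths2.length = Data.outs.length ∧ Data.paths3.length = Data.outs.length := by
  decide +kernel

theorem good (c : Fin 4) {n : ℕ} (hn : n ∈ Data.outs) :
    (∃ w, IsPath c n w) ∨ trace c n ≤ 9 ∨ n ∈ exc c := by
  obtain ⟨l0, l1, l2, l3⟩ := paths_len
  have key : ∀ P : List (List ℕ), P.length = Data.outs.length → (Data.outs.zip P).all (okAt c) = true →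
      (∃ w, IsPath c n w) ∨ trace c n ≤ 9 ∨ n ∈ exc c := by
    intro P hP hall
    rw [← List.map_fst_zip (l₁ := Data.outs) (l₂ := P) hP.ge] at hn
    obtain ⟨⟨m, w⟩, hmem, rfl⟩ := List.mem_map.1 hn
    have h := List.all_eq_true.1 hall _ hmem
    simp only [okAt, decide_eq_true_eq] at h
    exact h.imp (fun h => ⟨w, h⟩) id
  fin_cases c
  · exact key _ l0 good0
  · exact key _ l1 good1
  · exact key _ l2 good2
  · exact key _ l3 good3

end Cfsg.Agent.Lib.FischerUniq91.Checks
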