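import Cfsg.Agent.Lib.FischerUniq91.ExclData

/-!
A set of points closed under transvections that contains six points forming a path and has 126
members does not contain the radical point of the seven-node diagram, hence neither the seventh node
nor the highest root of the sub-diagram of type E6.
-/

set_option autoImplicit false
set_option maxRecDepth 100000
set_option Elab.async false
set_option linter.unusedSectionVars false

namespace Cfsg.Agent.Lib.FischerUniq91.Excl

open Cfsg.Agent.Lib.FischerMTypes.PointModel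
open Cfsg.Agent.Lib.G24 (K4)
open Cfsg.Agent.Lib.FischerUniq91.Coord

/-- membership in a list of numbers -/
def mem (n : ℕ) : List ℕ → Bool
  | [] => false
  | m :: l => if Nat.beq n m then true else mem n l

theorem mem_iff {n : ℕ} : ∀ {l : List ℕ}, mem n l = true ↔ n ∈ l
  | [] => by simp [mem]
  | m :: l => by
    rw [mem, List.mem_cons]
    split_ifs with h
    · simp [Nat.eq_of_beq_eq_true h]
    · rw [mem_iff (l := l)]
      exact ⟨Or.inr, fun h' => h'.resolve_left fun e => h (by simp [e])⟩

/-- the points known after the steps -/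
def run : List (ℕ × ℕ × ℕ) → List ℕ → Option (List ℕ)
  | [], known => some known
  | (s, x, z) :: rest, known =>
    if mem s known ∧ mem x known ∧
        (∃ l : K4, l ≠ 0 ∧ tvI M3 (vec s) (vec x) = l • vec z) then
      run rest (z :: known)
    else none

/-- the six nodes -/
def base : List ℕ := [1, 4, 16, 64, 256, 1024]

/-- the radical point -/
def rad : ℕ := 273

/-- the seventh node -/
def node : ℕ := 17

/-- the highest root -/
def top : ℕ := 1092

/-- the first non-zero entry is one -/
def Normal (v : V) : Prop := ∃ i : Fin 6, v i = 1 ∧ ∀ j : Fin 6, j < i → v j = 0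

instance instDecidableNormal (v : V) : Decidable (Normal v) :=
  inferInstanceAs (Decidable (∃ i : Fin 6, v i = 1 ∧ ∀ j : Fin 6, j < i → v j = 0))

theorem normal_eq {v w : V} {c : K4} (hv : Normal v) (hw : Normal w) (hc : c ≠ 0) (h : w = c • v) :
    w = v := by
  obtain ⟨i, hi, hi'⟩ := hv
  obtain ⟨j, hj, hj'⟩ := hw
  subst h
  rcases lt_trichotomy i j with hij | rfl | hij
  · exact absurd (hj' i hij) (by simp [hi, hc])
  · rw [show c = 1 by simpa [hi] using hj, one_smul]
  · exact absurd hj (by simp [hi' j hij])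

/-- the 28 points -/
def zList : List ℕ := ((run ExclData.zSteps (rad :: base)).getD [])

/-- the points generated with representative `i` -/
def big (i : ℕ) : List ℕ :=
  ((run (ExclData.down.getD i []) (ExclData.reps.getD i 0 :: zList)).getD [])

theorem z_some : ∃ l, run ExclData.zSteps (rad :: base) = some l := ⟨zList, by decide +kernel⟩

theorem big_some : ∀ i : Fin 3, ∃ l ∈ (run (ExclData.down.getD i.1 [])
    (ExclData.reps.getD i.1 0 :: zList)).toList, l = big i.1 := by
  decide +kernel

theorem lengths : zList.length = 28 ∧ (big 0).length = 63 ∧ (big 1).length = 448 ∧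
    (big 2).length = 238 := by
  decide +kernel

/-- a list has no repetition -/
def nodup : List ℕ → Bool
  | [] => true
  | m :: l => !mem m l && nodup l

theorem nodup_sound : ∀ {l : List ℕ}, nodup l = true → l.Nodup
  | [], _ => List.nodup_nil
  | m :: l, h => by
    simp only [nodup, Bool.and_eq_true, Bool.not_eq_true'] at h
    exact List.nodup_cons.2 ⟨fun hm => by rw [mem_iff.2 hm] at h; exact absurd h.1 (by simp), nodup_sound h.2⟩

/-- isotropic normalised codes below 4096 -/
def goodList (l : List ℕ) : Bool :=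
  l.all fun n => decide (Coord.Iso M3 (vec n) ∧ Normal (vec n))

theorem z_good : goodList zList = true ∧ nodup zList = true := by decide +kernel

theorem big_good : ∀ i : Fin 3, goodList (big i.1) = true ∧ nodup (big i.1) = true := by decide +kernel

/-- one entry of the ways back -/
def upOK (e : ℕ × ℕ × List (ℕ × ℕ × ℕ)) : Bool :=
  decide (e.2.1 < 3) && match run e.2.2 (e.1 :: zList) with
    | some l => mem (ExclData.reps.getD e.2.1 0) l
    | none => false

theorem up_ok : ExclData.ups.flatten.all upOK = true := by decide +kernel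

/-- the point with number `n` is in the 28 or has a way back -/
def covered (n : ℕ) : Bool :=
  mem n zList || ExclData.ups.flatten.any fun e => Nat.beq e.1 n

theorem cover : ∀ n : Fin 4096, Coord.Iso M3 (vec n.1) → Normal (vec n.1) → covered n.1 = true := by
  decide +kernel

theorem big_zero : ∀ n ∈ ExclData.ups.flatten, n.2.1 = 0 → mem n.1 (big 0) = true := by decide +kernel

/-- a list reaches the radical point -/
def reachesRad (steps : List (ℕ × ℕ × ℕ)) (start : List ℕ) : Bool :=
  match run steps start with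
  | some l => mem rad l
  | none => false

theorem node_reach : reachesRad ExclData.cSteps (node :: base) = true := by decide +kernel

theorem top_reach : reachesRad ExclData.thetaSteps (top :: base) = true := by decide +kernel

theorem special_iso : Coord.Iso M3 (vec rad) ∧ Coord.Iso M3 (vec node) ∧ Coord.Iso M3 (vec top) ∧
    ∀ n ∈ base, Coord.Iso M3 (vec n) := by
  decide +kernel

theorem normalise {v : V} (hv : v ≠ 0) : ∃ c : K4, c ≠ 0 ∧ Normal (c • v) := by
  classical
  have hne : (Finset.univ.filter fun i => v i ≠ 0).Nonempty := by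
    obtain ⟨i, hi⟩ := Function.ne_iff.1 hv
    exact ⟨i, by simpa using hi⟩
  set i := (Finset.univ.filter fun i => v i ≠ 0).min' hne with hi
  have hvi : v i ≠ 0 := (Finset.mem_filter.1 (Finset.min'_mem _ hne)).2
  refine ⟨(v i)⁻¹, inv_ne_zero hvi, i, by simp [inv_mul_cancel₀ hvi], fun j hj => ?_⟩
  by_contra hj0
  refine absurd (Finset.min'_le _ j ?_) (not_le.2 hj)
  refine Finset.mem_filter.2 ⟨Finset.mem_univ _, fun h => hj0 ?_⟩
  simp [h]

variable {G : Type*} [Group G] [Finite G] {D : Set G}
variable {F : Type} [Field F] [Fintype F]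
variable {q : G} {C : Ctx D q F} (K : Coord C M3) {T : Set G}

theorem run_sound (hT : ∀ y ∈ T, ∀ z ∈ T, y * z * y ∈ T) :
    ∀ (l : List (ℕ × ℕ × ℕ)) (known known' : List ℕ),
      (∀ n ∈ known, Coord.Iso M3 (vec n) ∧ K.P (vec n) ∈ T) → run l known = some known' →
        ∀ n ∈ known', Coord.Iso M3 (vec n) ∧ K.P (vec n) ∈ T := by
  intro l
  induction l with
  | nil =>
    intro known known' h e
    rw [run, Option.some.injEq] at e
    exact e ▸ h
  | cons step l ih =>
    obtain ⟨s, x, z⟩ := step
    intro known known' h e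
    rw [run] at e
    split_ifs at e with hs
    obtain ⟨hs1, hs2, c, hc, hconj⟩ := hs
    refine ih _ _ ?_ e
    intro m hm
    rcases List.mem_cons.1 hm with rfl | hm
    · obtain ⟨i1, t1⟩ := h _ (mem_iff.1 hs1)
      obtain ⟨i2, t2⟩ := h _ (mem_iff.1 hs2)
      have hiso : Coord.Iso M3 (c⁻¹ • tvI M3 (vec s) (vec x)) := by
        obtain ⟨h1, h2⟩ := K.iso_tvI i1 i2
        refine ⟨K.ι.injective ?_, smul_ne_zero (inv_ne_zero hc) h2⟩
        rw [← K.herm, K.L_smul, Cfsg.Agent.Lib.Unitary.herm_smul_left,
          Cfsg.Agent.Lib.Unitary.herm_smul_right, K.herm, h1, map_zero, mul_zero, mul_zero]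
      rw [hconj, inv_smul_smul₀ hc] at hiso
      have := hT _ t1 _ t2
      rw [K.P_conj i1 i2, hconj, K.P_smul hiso hc] at this
      exact ⟨hiso, this⟩
    · exact h m hm

theorem le_ncard {l : List ℕ} (hg : goodList l = true) (hn : nodup l = true) {T' : Set G}
    (hfin : T'.Finite) (h : ∀ n ∈ l, K.P (vec n) ∈ T') (h4 : ∀ n ∈ l, n < 4096) :
    l.length ≤ T'.ncard := by
  classical
  have hg' : ∀ n ∈ l, Coord.Iso M3 (vec n) ∧ Normal (vec n) := fun n hn' =>
    of_decide_eq_true (List.all_eq_true.1 hg n hn')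
  have hinj : ∀ n ∈ l, ∀ m ∈ l, K.P (vec n) = K.P (vec m) → n = m := by
    intro n hn' m hm e
    obtain ⟨c, hc, hcm⟩ := (K.P_eq (hg' n hn').1 (hg' m hm).1).1 e
    have e2 := normal_eq (hg' n hn').2 (hg' m hm).2 hc hcm
    have e3 : ∀ a : Fin 4096, code (vec a.1) = a.1 := by decide +kernel
    calc n = code (vec n) := (e3 ⟨n, h4 n hn'⟩).symm
      _ = code (vec m) := by rw [e2]
      _ = m := e3 ⟨m, h4 m hm⟩
  rw [← List.toFinset_card_of_nodup (nodup_sound hn),
    ← Finset.card_image_of_injOn (f := fun n => K.P (vec n))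
      (fun n hn' m hm e => hinj n (List.mem_toFinset.1 hn') m (List.mem_toFinset.1 hm) e),
    Set.ncard_eq_toFinset_card _ hfin]
  refine Finset.card_le_card fun y hy => ?_
  obtain ⟨n, hn', rfl⟩ := Finset.mem_image.1 hy
  exact hfin.mem_toFinset.2 (h n (List.mem_toFinset.1 hn'))

theorem small : (∀ n ∈ zList, n < 4096) ∧ ∀ i : Fin 3, ∀ n ∈ big i.1, n < 4096 := by decide +kernel

/-- the radical point is not among 126 closed points through the path -/
theorem no_rad (hT : ∀ y ∈ T, ∀ z ∈ T, y * z * y ∈ T) (hsub : T ⊆ Cfsg.Agent.Lib.FischerMTypes.Primitive.perp D q)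
    (hcard : T.ncard = 126) (hbase : ∀ i, K.P (unit i) ∈ T) : K.P (vec rad) ∉ T := by
  intro hrad
  have hfin : T.Finite := Set.toFinite T
  have hb : ∀ n ∈ base, Coord.Iso M3 (vec n) ∧ K.P (vec n) ∈ T := by
    have e : ∀ n ∈ base, ∃ i : Fin 6, vec n = unit i := by decide +kernel
    intro n hn
    obtain ⟨i, hi⟩ := e n hn
    exact ⟨special_iso.2.2.2 n hn, hi ▸ hbase i⟩
  obtain ⟨z, hz⟩ := z_some
  have hzeq : zList = z := by rw [zList, hz]; rfl
  have hzT : ∀ n ∈ zList, Coord.Iso M3 (vec n) ∧ K.P (vec n) ∈ T := by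
    rw [hzeq]
    exact run_sound K hT _ _ _ (fun n hn => (List.mem_cons.1 hn).elim (fun h => h ▸ ⟨special_iso.1, hrad⟩) (hb n)) hz
  -- a member outside a given list gives a representative
  have key : ∀ l : List ℕ, l.length < 126 → (∀ n ∈ zList, n ∈ l) →
      ∃ i : Fin 3, (∀ n ∈ big i.1, K.P (vec n) ∈ T) ∧ ∃ n, n ∉ l ∧ ∃ e ∈ ExclData.ups.flatten,
        e.1 = n ∧ e.2.1 = i.1 := by
    intro l hl hlz
    classical
    obtain ⟨y, hy, hyl⟩ : ∃ y ∈ T, y ∉ (l.toFinset.image fun n => K.P (vec n)) := by
      by_contra hcon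
      push Not at hcon
      have := Set.ncard_le_ncard (t := ↑(l.toFinset.image fun n => K.P (vec n)))
        (fun y hy => Finset.mem_coe.2 (hcon y hy)) (Set.toFinite _)
      rw [Set.ncard_coe_finset, hcard] at this
      have := this.trans (Finset.card_image_le.trans (List.toFinset_card_le l))
      omega
    obtain ⟨v, hv, rfl⟩ := K.exists_P (hsub hy)
    obtain ⟨c, hc, hn⟩ := normalise hv.2
    have hcv : Coord.Iso M3 (c • v) := ⟨by
      refine K.ι.injective ?_
      rw [← K.herm, K.L_smul, Cfsg.Agent.Lib.Unitary.herm_smul_left,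
        Cfsg.Agent.Lib.Unitary.herm_smul_right, K.herm, hv.1, map_zero, mul_zero, mul_zero],
      smul_ne_zero hc hv.2⟩
    have hP : K.P (vec (code (c • v))) = K.P v := by rw [vec_code, K.P_smul hv hc]
    have hnl : code (c • v) ∉ l := fun h => hyl (Finset.mem_image.2 ⟨_, List.mem_toFinset.2 h, hP⟩)
    have hcov := cover ⟨code (c • v), code_lt _⟩ (by rw [vec_code]; exact hcv) (by rw [vec_code]; exact hn)
    simp only [covered, Bool.or_eq_true, mem_iff, List.any_eq_true] at hcov
    obtain ⟨e, he, hee⟩ := hcov.resolve_left fun h => hnl (hlz _ h)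
    have hee' : e.1 = code (c • v) := Nat.eq_of_beq_eq_true hee
    have hok := List.all_eq_true.1 up_ok e he
    simp only [upOK, Bool.and_eq_true, decide_eq_true_eq] at hok
    obtain ⟨h3, hrun⟩ := hok
    split at hrun
    next l' hl' =>
      have hrep := run_sound K hT _ _ _ (fun n hn' => (List.mem_cons.1 hn').elim
        (fun h => by rw [h, hee']; exact ⟨by rw [vec_code]; exact hcv, hP ▸ hy⟩) (hzT n)) hl' _
        (mem_iff.1 hrun)
      obtain ⟨L, hL, hLe⟩ := big_some ⟨e.2.1, h3⟩
      simp only [Option.mem_toList] at hL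
      refine ⟨⟨e.2.1, h3⟩, fun n hn' => ?_, _, hnl, e, he, hee', rfl⟩
      exact (run_sound K hT _ _ _ (fun m hm => (List.mem_cons.1 hm).elim (fun h => h ▸ hrep) (hzT m)) hL n
        (hLe.symm ▸ hn')).2
    next => exact absurd hrun (by simp)
  have large : ∀ i : Fin 3, i.1 ≠ 0 → (∀ n ∈ big i.1, K.P (vec n) ∈ T) → False := by
    intro i hi hall
    have h1 := le_ncard K (big_good i).1 (big_good i).2 hfin hall (small.2 i)
    rw [hcard] at h1
    obtain ⟨-, -, l1, l2⟩ := lengths
    fin_cases i
    · exact hi rfl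
    · simp only at h1; omega
    · simp only at h1; omega
  obtain ⟨i, hi, -⟩ := key zList (by rw [lengths.1]; norm_num) (fun _ h => h)
  by_cases hi0 : i.1 = 0
  swap
  · exact large i hi0 hi
  have hz0 : ∀ n ∈ zList, n ∈ big 0 := by decide +kernel
  obtain ⟨j, hj, n, hn, e, he, hen, hej⟩ := key (big 0) (by rw [lengths.2.1]; norm_num) hz0
  refine large j (fun hj0 => hn ?_) hj
  rw [← hen]
  exact mem_iff.1 (big_zero e he (hej.trans hj0))

theorem no_reach (hT : ∀ y ∈ T, ∀ z ∈ T, y * z * y ∈ T)
    (hsub : T ⊆ Cfsg.Agent.Lib.FischerMTypes.Primitive.perp D q)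
    (hcard : T.ncard = 126) (hbase : ∀ i, K.P (unit i) ∈ T) :
    K.P (vec node) ∉ T ∧ K.P (vec top) ∉ T := by
  have key : ∀ n steps, Coord.Iso M3 (vec n) → reachesRad steps (n :: base) = true → K.P (vec n) ∉ T := by
    intro n steps hiso hr hn
    have hb : ∀ m ∈ base, ∃ i : Fin 6, vec m = unit i := by decide +kernel
    unfold reachesRad at hr
    split at hr
    next l hl =>
      exact no_rad K hT hsub hcard hbase (run_sound K hT _ _ _ (fun m hm => (List.mem_cons.1 hm).elim
        (fun h => h ▸ ⟨hiso, hn⟩)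
        (fun h => by
          obtain ⟨i, hi⟩ := hb m h
          exact ⟨special_iso.2.2.2 m h, hi ▸ hbase i⟩)) hl _ (mem_iff.1 hr)).2
    next => exact absurd hr (by simp)
  exact ⟨key _ _ special_iso.2.1 node_reach, key _ _ special_iso.2.2.1 top_reach⟩

end Cfsg.Agent.Lib.FischerUniq91.Excl
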