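import Cfsg.Agent.Lib.FischerUniq91.Trace
import Cfsg.Agent.Lib.FischerUniq91.Excl
import Cfsg.Agent.Lib.FischerUniq91.AffHom
import Cfsg.Agent.Lib.Fi22Mult.Lift

/-!
Nine transpositions in a group of type M(22) satisfy the relations of the presented group Fi22.
-/

set_option autoImplicit false
set_option maxRecDepth 20000
set_option linter.style.haveILetI false
set_option linter.unusedSectionVars false

namespace Cfsg.Agent.Lib.FischerUniq91.Rels

open Cfsg.Agent.Lib.FischerMTypes.Basic Cfsg.Agent.Lib.FischerMTypes.Primitive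
  Cfsg.Agent.Lib.FischerMTypes.PointModel Cfsg.Agent.Lib.FischerMTypes.TraceCounts
  Cfsg.Agent.Lib.FischerMTypes.TraceSize Cfsg.Agent.Lib.FischerMTypes.StabilizerM22
open Cfsg.Agent.Lib.Unitary (herm_smul_left herm_smul_right herm_add_left)
open Cfsg.Agent.Lib.UnitaryFour.Transvection
open Cfsg.Agent.Lib.G24 (K4)
open Cfsg.Agent.Lib.FischerUniq91.Coord
open Cfsg.Agent.Lib.Coxeter Cfsg.Agent.Lib.Coxeter.WeylOrder
open Cfsg.Agent.Lib.Fi22Mult
open Cfsg.Spor (coxLabel)
open Cfsg.Spor.Fi22 (edges)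
open Cfsg.Agent.Lib.FischerUniq91.Excl (rad node top)

variable {G : Type*} [Group G] [Finite G] {D : Set G}
variable {F : Type} [Field F] [Fintype F]

theorem rad_orth : ∀ n : Fin 4096, (∀ k : Fin 6, k.1 < 5 → J M3 (vec n.1) (unit k) = 0) →
    vec n.1 = vec n.1 0 • vec rad := by
  decide +kernel

theorem node_orth : ∀ n : Fin 4096, (∀ k : Fin 6, k.1 ≠ 3 → J M3 (vec n.1) (unit k) = 0) →
    vec n.1 = vec n.1 0 • vec node := by
  decide +kernel

theorem unit_ok : ∀ k : Fin 6, Coord.Iso M3 (unit k) := by decide +kernel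

theorem scale_ok : ∀ l m : K4, l ≠ 0 → J M3 (l • unit 5 + m • vec rad) (l • unit 5 + m • vec rad) = 0 →
    m = 0 ∨ m = l := by
  decide +kernel

theorem tv_units : ∀ k : Fin 6,
    tvI M3 (vec rad) (unit k) = if k.1 < 5 then unit k else unit k + vec rad := by
  decide +kernel

theorem first_ok : ∀ n ∈ [1, node], Coord.Iso M3 (vec n) ∧
    (∃ x : K4, vec n = unit 0 + x • unit 2) ∧ ∃ k : Fin 6, 0 < k.1 ∧ k.1 < 5 ∧ J M3 (vec n) (unit k) ≠ 0 := by
  decide +kernel

theorem rad_eq : vec rad = unit 0 + unit 2 + unit 4 := by decide +kernel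

theorem eq_one_or_self {q z : G} (hq : q * q = 1) (hz : z ∈ Subgroup.zpowers q) : z = 1 ∨ z = q := by
  obtain ⟨n, rfl⟩ := Subgroup.mem_zpowers_iff.1 hz
  have h2 : q ^ (2 : ℤ) = 1 := by rw [zpow_two, hq]
  rcases Int.even_or_odd' n with ⟨m, rfl | rfl⟩
  · left; rw [zpow_mul, h2, one_zpow]
  · right; rw [zpow_add, zpow_mul, h2, one_zpow, one_mul, zpow_one]

variable {q : G}

/-- elements fixing the five points of a hyperplane -/
theorem fix_five (S : Sys D F) (hq : q ∈ D) {C : Ctx D q F}
    (K : Coord C M3) {z : G} (hzq : Commute z q)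
    {n : ℕ} (hn : n ∈ [1, node]) (h0 : Commute z (K.P (vec n)))
    (hk : ∀ k : Fin 6, 0 < k.1 → k.1 < 5 → Commute z (K.P (unit k))) :
    z = 1 ∨ z = q ∨ z = K.P (vec rad) ∨ z = q * K.P (vec rad) := by
  have hzH : z ∈ Subgroup.closure (perp D q) := by
    rw [centralizer_eq S hq, Subgroup.mem_centralizer_singleton_iff]
    exact hzq.eq
  obtain ⟨s, hs⟩ := C.surj (QuotientGroup.mk ⟨z, hzH⟩)
  obtain ⟨hn0, ⟨x, hx⟩, k₀, hk0, hk5, hnk⟩ := first_ok n hn
  have eig : ∀ v, Coord.Iso M3 v → Commute z (K.P v) → ∃ c : F, c ≠ 0 ∧ act s (K.L v) = c • K.L v := by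
    intro v hv hc
    have h := C.pt_conj (K.iso_L hv).1 (K.iso_L hv).2 s hs.symm
    have hfix : z * K.P v * z⁻¹ = K.P v := by rw [hc.eq, mul_inv_cancel_right]
    have h' : C.pt (K.L v) = C.pt (act s (K.L v)) := hfix.symm.trans h
    exact (C.pt_eq (K.iso_L hv).1 (K.iso_L hv).2 (by rw [act_herm]; exact (K.iso_L hv).1)
      (fun e => (K.iso_L hv).2 (by rw [← act_inv_self s (K.L v), e]; simp [act_def]))).1 h'
  have link : ∀ v w : V, J M3 v w ≠ 0 → ∀ c d : F, d ≠ 0 → act s (K.L v) = c • K.L v →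
      act s (K.L w) = d • K.L w → c = d := by
    intro v w hvw c d hd e1 e2
    have h := act_herm s (K.L v) (K.L w)
    rw [e1, e2, herm_smul_left, herm_smul_right, K.herm] at h
    have hne : K.ι (J M3 v w) ≠ 0 := fun e => hvw (K.ι.injective (by rw [e, map_zero]))
    have h1 : c * d ^ 2 = 1 := mul_right_cancel₀ hne (by rw [one_mul, mul_assoc, h])
    calc c = c * d ^ 3 := by rw [Cfsg.Agent.Lib.UnitaryFour.Transvection.cube_eq_one C.hF hd, mul_one]
      _ = c * d ^ 2 * d := by ring
      _ = d := by rw [h1, one_mul]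
  have hJ : ∀ k : Fin 6, ∀ k' : Fin 6, k.1 + 1 = k'.1 → J M3 (unit k) (unit k') ≠ 0 := by decide +kernel
  obtain ⟨c1, c10, e1⟩ := eig _ (unit_ok 1) (hk 1 (by decide) (by decide))
  obtain ⟨c2, c20, e2⟩ := eig _ (unit_ok 2) (hk 2 (by decide) (by decide))
  obtain ⟨c3, c30, e3⟩ := eig _ (unit_ok 3) (hk 3 (by decide) (by decide))
  obtain ⟨c4, c40, e4⟩ := eig _ (unit_ok 4) (hk 4 (by decide) (by decide))
  obtain ⟨cn, cn0, en⟩ := eig _ hn0 h0
  obtain rfl : c1 = c2 := link _ _ (hJ 1 2 rfl) _ _ c20 e1 e2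
  obtain rfl : c1 = c3 := link _ _ (hJ 2 3 rfl) _ _ c30 e2 e3
  obtain rfl : c1 = c4 := link _ _ (hJ 3 4 rfl) _ _ c40 e3 e4
  obtain rfl : cn = c1 := by
    fin_cases k₀
    · exact absurd hk0 (by decide)
    · exact link _ _ hnk _ _ c10 en e1
    · exact link _ _ hnk _ _ c10 en e2
    · exact link _ _ hnk _ _ c10 en e3
    · exact link _ _ hnk _ _ c10 en e4
    · exact absurd hk5 (by decide)
  have e0 : act s (K.L (unit 0)) = cn • K.L (unit 0) := by
    have h : K.L (vec n) = K.L (unit 0) + K.ι x • K.L (unit 2) := by rw [hx, K.L_add, K.L_smul]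
    rw [h, act_add, act_smul, e2, smul_add, smul_comm (K.ι x) cn] at en
    exact add_right_cancel en
  have hlow : ∀ k : Fin 6, k.1 < 5 → act s (K.L (unit k)) = cn • K.L (unit k) := by
    intro k hk
    fin_cases k
    exacts [e0, e1, e2, e3, e4, absurd hk (by decide)]
  -- the last basis vector
  obtain ⟨l, rfl⟩ := ((Fintype.bijective_iff_injective_and_card K.ι).2
    ⟨K.ι.injective, by rw [Cfsg.Agent.Lib.G24.K4.card_eq, C.hF]; norm_num⟩).2 cn
  have hl : l ≠ 0 := fun h => cn0 (by rw [h, map_zero])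
  obtain ⟨y, hy⟩ := K.L_surj (act s (K.L (unit 5)) + K.ι l • K.L (unit 5))
  have hyk : ∀ k : Fin 6, k.1 < 5 → J M3 y (unit k) = 0 := by
    intro k hk
    refine K.ι.injective ?_
    rw [map_zero, ← K.herm, hy, herm_add_left, herm_smul_left, K.herm]
    have h := act_herm s (K.L (unit 5)) (K.L (unit k))
    rw [hlow k hk, herm_smul_right, K.herm] at h
    have h3 : K.ι l * K.ι l ^ 2 = 1 := norm_eq_one C.hF cn0
    have h' : Cfsg.hermForm 6 F 2 (act s (K.L (unit 5))) (K.L (unit k)) =
        K.ι l * K.ι (J M3 (unit 5) (unit k)) := by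
      rw [← h, ← mul_assoc, h3, one_mul]
    rw [h']
    linear_combination (K.ι l * K.ι (J M3 (unit 5) (unit k))) * two_eq_zero C.hF
  have hy' := rad_orth ⟨code y, code_lt y⟩ (fun k hk => by rw [vec_code]; exact hyk k hk)
  simp only [vec_code] at hy'
  set m := y 0
  have e5 : act s (K.L (unit 5)) = K.L (l • unit 5 + m • vec rad) := by
    rw [K.L_add, ← hy', hy, K.L_smul, add_comm, add_assoc, add_self_zero C.hF, add_zero]
  have hm : m = 0 ∨ m = l := scale_ok l m hl (K.ι.injective (by
    rw [map_zero, ← K.herm, ← e5, act_herm, K.herm, (unit_ok 5).1, map_zero]))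
  have act_L : ∀ (t : Cfsg.SU 6 F 2) (v : V),
      act t (K.L v) = ∑ i, K.ι (v i) • act t (K.L (unit i)) := by
    intro t v
    simp only [K.L_unit, act_def]
    rw [Coord.L, Matrix.mulVec_sum]
    exact Finset.sum_congr rfl fun i _ => Matrix.mulVec_smul _ _ _
  have central : ∀ t : Cfsg.SU 6 F 2, (∀ k : Fin 6, act t (K.L (unit k)) = K.ι l • K.L (unit k)) →
      C.φ t = 1 := by
    intro t ht
    rw [← MonoidHom.mem_ker, C.ker_eq]
    refine (Cfsg.Agent.Lib.Unitary.mem_center_SU_iff C.hF (by norm_num) t).2 ⟨K.ι l, fun u => ?_⟩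
    obtain ⟨v, rfl⟩ := K.L_surj u
    show act t (K.L v) = K.ι l • K.L v
    rw [act_L]
    simp only [ht]
    simp only [K.L_unit]
    simp only [Coord.L, Finset.smul_sum, smul_smul, mul_comm]
  have hr : Coord.Iso M3 (vec rad) := Excl.special_iso.1
  have hsq : q * q = 1 := mul_self S.hD.1 hq
  have cen : ∀ w : G, (hw : w ∈ Subgroup.closure (perp D q)) →
      (QuotientGroup.mk (⟨w, hw⟩ : ↥(Subgroup.closure (perp D q))) :
        ↥(Subgroup.closure (perp D q)) ⧸ Subgroup.center ↥(Subgroup.closure (perp D q))) = 1 →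
      w = 1 ∨ w = q := by
    intro w hw h
    rw [QuotientGroup.eq_one_iff, center_eq S hq, Subgroup.mem_subgroupOf] at h
    exact eq_one_or_self hsq h
  rcases hm with hm | hm
  · have h1 : C.φ s = 1 := central s fun k => by
      by_cases hk : k.1 < 5
      · exact hlow k hk
      · obtain rfl : k = 5 := Fin.ext (by have := k.2; show k.1 = 5; omega)
        rw [e5, hm, zero_smul, add_zero, K.L_smul]
    exact (cen z hzH (hs ▸ h1)).imp id Or.inl
  · set t := tv C.hF (K.L (vec rad)) (K.iso_L hr).1 with ht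
    have hu : act s (K.L (vec rad)) = K.ι l • K.L (vec rad) := by
      rw [rad_eq]
      simp only [K.L_add, act_add, smul_add, hlow 0 (by decide), hlow 2 (by decide), hlow 4 (by decide)]
    have h1 : C.φ (s * t) = 1 := central (s * t) fun k => by
      rw [act_mul, ht, K.act_tv_L hr, tv_units]
      split_ifs with hk
      · exact hlow k hk
      · obtain rfl : k = 5 := Fin.ext (by have := k.2; show k.1 = 5; omega)
        rw [K.L_add, act_add, hu, e5, hm, K.L_add, K.L_smul, K.L_smul, add_assoc, add_self_zero C.hF,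
          add_zero]
    rw [map_mul, hs, ← C.pt_im (K.iso_L hr).1 (K.iso_L hr).2] at h1
    have hu' := K.P_mem hr
    have h2 := cen (z * K.P (vec rad)) (mul_mem hzH (Subgroup.subset_closure hu')) h1
    have hz : z = z * K.P (vec rad) * K.P (vec rad) := by
      rw [mul_assoc, mul_self S.hD.1 hu'.1, mul_one]
    rcases h2 with h2 | h2 <;> rw [h2] at hz
    · exact Or.inr (Or.inr (Or.inl (by rw [hz, one_mul])))
    · exact Or.inr (Or.inr (Or.inr hz))

/-- the word of a diagram of type E7 -/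
theorem seven_facts {Γ : Type*} [Group Γ] (t : Node → Γ) (ix : Fin 7 → Node)
    (hM : ∀ i j, CoxeterMatrix.E₇ i j = coxLabel edges (ix i) (ix j))
    (hcox : ∀ x y, (t x * t y) ^ coxLabel edges x y = 1) (w : List ℕ) (L : List Node)
    (hw : w.map (fun j => if h : j < 7 then ix ⟨j, h⟩ else .a) = L)
    (hlt : ∀ j ∈ w, j < 7) (hsq : WeylSmall.wordsEq 7 DataE7.cartan (w ++ w) [] = true)
    (hcomm : ∀ j : Fin 7, WeylSmall.wordsEq 7 DataE7.cartan (w ++ [j.1]) (j.1 :: w) = true) :
    wp t L * wp t L = 1 ∧ ∀ j, Commute (wp t L) (t (ix j)) := by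
  have hl : CoxeterMatrix.IsLiftable CoxeterMatrix.E₇ fun i => t (ix i) := fun i j => by
    rw [hM]; exact hcox _ _
  let φ : CoxeterMatrix.E₇.Group →* Γ := CoxeterMatrix.E₇.toCoxeterSystem.lift ⟨_, hl⟩
  have hφ : ∀ v : List ℕ, (∀ j ∈ v, j < 7) → φ (genProd CoxeterMatrix.E₇ v) =
      wp t (v.map fun j => if h : j < 7 then ix ⟨j, h⟩ else .a) := by
    intro v hv
    rw [genProd, map_list_prod, List.map_map, wp, List.map_map]
    congr 1
    refine List.map_congr_left fun j hj => ?_
    simp only [Function.comp_apply, WeylOrder.gen, dif_pos (hv j hj)]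
    exact CoxeterMatrix.E₇.toCoxeterSystem.lift_apply_simple hl ⟨j, hv j hj⟩
  have key : ∀ v v' : List ℕ, (∀ j ∈ v, j < 7) → (∀ j ∈ v', j < 7) →
      WeylSmall.wordsEq 7 DataE7.cartan v v' = true →
      wp t (v.map fun j => if h : j < 7 then ix ⟨j, h⟩ else .a) =
        wp t (v'.map fun j => if h : j < 7 then ix ⟨j, h⟩ else .a) := by
    intro v v' hv hv' he
    rw [← hφ v hv, ← hφ v' hv', WeylSmall.eq_of_wordsEq Certs.checkE7 he]
  constructor
  · have := key (w ++ w) [] (by simpa using hlt) (by simp) hsq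
    rwa [List.map_append, hw, wp_append, List.map_nil, wp_nil] at this
  · intro j
    have := key (w ++ [j.1]) (j.1 :: w)
      (by intro k hk; rcases List.mem_append.1 hk with h | h; exacts [hlt k h, by simp_all])
      (by intro k hk; rcases List.mem_cons.1 hk with h | h; exacts [h ▸ j.2, hlt k h]) (hcomm j)
    rw [List.map_append, List.map_cons, List.map_cons, List.map_nil, hw, wp_append, wp_cons, wp_cons,
      wp_nil, mul_one, dif_pos j.2] at this
    exact this

/-- the first word in indices -/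
def word₁ : List ℕ := (List.replicate 9 [6, 5, 4, 3, 2, 0, 1]).flatten

/-- the second word in indices -/
def word₂ : List ℕ := (List.replicate 9 [0, 2, 3, 4, 5, 6, 1]).flatten

theorem word_nodes : word₁.map (fun j => if h : j < 7 then idx₁ ⟨j, h⟩ else .a) = seven₁ ∧
    word₂.map (fun j => if h : j < 7 then idx₂ ⟨j, h⟩ else .a) = seven₂ := by
  decide +kernel

theorem word_checks : (∀ j ∈ word₁ ++ word₂, j < 7) ∧
    WeylSmall.wordsEq 7 DataE7.cartan (word₁ ++ word₁) [] = true ∧
    WeylSmall.wordsEq 7 DataE7.cartan (word₂ ++ word₂) [] = true ∧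
    (∀ j : Fin 7, WeylSmall.wordsEq 7 DataE7.cartan (word₁ ++ [j.1]) (j.1 :: word₁) = true) ∧
    ∀ j : Fin 7, WeylSmall.wordsEq 7 DataE7.cartan (word₂ ++ [j.1]) (j.1 :: word₂) = true := by
  decide +kernel

/-- coordinates of the seven nodes at `a` -/
def nv : Node → ℕ
  | .g => 1
  | .f => 4
  | .e => 16
  | .d => 64
  | .h => 256
  | .i => 1024
  | .c => node
  | .a => 0
  | .b => 0

theorem nv_ok : ∀ x : Node, x ≠ .a → x ≠ .b → Coord.Iso M3 (vec (nv x)) ∧
    ∀ y : Node, y ≠ .a → y ≠ .b →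
      (J M3 (vec (nv x)) (vec (nv y)) = 0 ↔ coxLabel edges x y ≠ 3) := by
  decide +kernel

theorem label_a : ∀ x : Node, x ≠ .a → (coxLabel edges .a x = 3 ↔ x = .b) ∧ (coxLabel edges x .a = 3 ↔ x = .b) := by
  decide +kernel

theorem label_b : ∀ x : Node, x ≠ .b → (coxLabel edges .b x = 3 ↔ x = .a ∨ x = .c) ∧
    (coxLabel edges x .b = 3 ↔ x = .a ∨ x = .c) := by
  decide +kernel

/-- nine transpositions with the pattern of the diagram -/
structure Nine (D : Set G) where
  t : Node → G
  mem : ∀ x, t x ∈ D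
  comm : ∀ x y, Commute (t x) (t y) ↔ coxLabel edges x y ≠ 3
  inj : ∀ x y, t x = t y → x = y

theorem Nine.cox (hD : Cfsg.IsThreeTranspositionGroup D) (N : Nine D) (x y : Node) :
    (N.t x * N.t y) ^ coxLabel edges x y = 1 := by
  rcases label_cases x y with ⟨h, rfl⟩ | h | h <;> rw [h]
  · rw [pow_one, mul_self hD.1 (N.mem x)]
  · have hc : Commute (N.t x) (N.t y) := (N.comm x y).2 (by omega)
    rw [hc.mul_pow, sq, sq, mul_self hD.1 (N.mem x), mul_self hD.1 (N.mem y), one_mul]
  · exact Cfsg.Agent.Lib.FischerMTypes.Basic.cube_eq_one hD.1 (N.mem x) (N.mem y)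
      fun hc => (N.comm x y).1 hc h

theorem Nine.perp_mem (N : Nine D) {x y : Node} (hne : y ≠ x) (h : coxLabel edges x y ≠ 3) :
    N.t y ∈ perp D (N.t x) :=
  ⟨N.mem y, fun e => hne (N.inj y x e), (N.comm x y).2 h⟩

theorem label_triangle : ∀ x y : Node, x ≠ y → ∃ z : Node,
    ¬ (coxLabel edges x z ≠ 3 ↔ coxLabel edges y z ≠ 3) := by
  decide +kernel

theorem inj_of_comm (t : Node → G) (hcomm : ∀ x y, Commute (t x) (t y) ↔ coxLabel edges x y ≠ 3) :
    ∀ x y, t x = t y → x = y := by
  intro x y h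
  by_contra hne
  obtain ⟨z, hz⟩ := label_triangle x y hne
  exact hz (by rw [← hcomm, ← hcomm, h])

theorem reflected {K' : Fin 6 → V} {C : Ctx D q F} (K : Coord C K') (t : Node → G) (c : Node → V)
    (hiso : ∀ x, x ≠ .a → x ≠ .b → Coord.Iso K' (c x)) (ht : ∀ x, x ≠ .a → x ≠ .b → t x = K.P (c x)) :
    ∀ (l : List Node) (x : Node), (∀ y ∈ x :: l, y ≠ .a ∧ y ≠ .b) →
      Coord.Iso K' (l.foldr (fun y v => tvI K' (c y) v) (c x)) ∧
        wp t (l ++ [x] ++ l.reverse) = K.P (l.foldr (fun y v => tvI K' (c y) v) (c x)) := by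
  intro l
  induction l with
  | nil =>
    intro x h
    exact ⟨hiso x (h x (by simp)).1 (h x (by simp)).2,
      by simp [wp, ht x (h x (by simp)).1 (h x (by simp)).2]⟩
  | cons y l ih =>
    intro x h
    obtain ⟨h1, h2⟩ := ih x (fun z hz => h z (by
      rcases List.mem_cons.1 hz with rfl | hz <;> simp [*]))
    have hy := h y (by simp)
    refine ⟨K.iso_tvI (hiso y hy.1 hy.2) h1, ?_⟩
    rw [List.foldr_cons, ← K.P_conj (hiso y hy.1 hy.2) h1, ← h2, ← ht y hy.1 hy.2, List.reverse_cons,
      show y :: l ++ [x] ++ (l.reverse ++ [y]) = [y] ++ (l ++ [x] ++ l.reverse) ++ [y] by simp,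
      wp_append, wp_append]
    simp [wp]

variable (S : Sys D F)

include S in
/-- the nine transpositions of a pair and a path among its common neighbours -/
theorem nine_of_frame {a b : G} (ha : a ∈ D) (hb : b ∈ D) (hab : ¬ Commute a b)
    (K : Coord (S.ctx a ha) M3) (hbase : ∀ i, K.P (unit i) ∈ perp₂ D a b) :
    ∃ N : Nine D, N.t .a = a ∧ N.t .b = b ∧ (∀ x, x ≠ .a → x ≠ .b → N.t x = K.P (vec (nv x))) ∧
      wp N.t spider = 1 ∧ wp N.t seven₁ = 1 ∧ wp N.t seven₂ = 1 := by
  have hT : ∀ y ∈ perp₂ D a b, ∀ z ∈ perp₂ D a b, y * z * y ∈ perp₂ D a b := (perp₂_closed S.hD a b).2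
  have hrad := Excl.no_rad K hT Set.inter_subset_left (ncard_trace S ha hb hab) hbase
  obtain ⟨hnode, htop⟩ := Excl.no_reach K hT Set.inter_subset_left (ncard_trace S ha hb hab) hbase
  have notcomm : ∀ {y : G}, y ∈ perp D a → y ∉ perp₂ D a b → ¬ Commute b y := fun hy hn hc =>
    hn ⟨hy, hy.1, fun e => hab (e ▸ hy.2.2), hc⟩
  let t : Node → G := fun x =>
    match x with
    | .a => a
    | .b => b
    | x => K.P (vec (nv x))
  have ht : ∀ x, x ≠ .a → x ≠ .b → t x = K.P (vec (nv x)) := by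
    intro x h1 h2; cases x <;> first | rfl | contradiction
  have hsix : ∀ x, x ≠ .a → x ≠ .b → x ≠ .c → t x ∈ perp₂ D a b := by
    intro x h1 h2 h3
    rw [ht x h1 h2]
    have e : ∀ x : Node, x ≠ .a → x ≠ .b → x ≠ .c → ∃ i : Fin 6, vec (nv x) = unit i := by decide +kernel
    obtain ⟨i, hi⟩ := e x h1 h2 h3
    rw [hi]
    exact hbase i
  have hperp : ∀ x, x ≠ .a → x ≠ .b → t x ∈ perp D a := fun x h1 h2 => by
    rw [ht x h1 h2]; exact K.P_mem (nv_ok x h1 h2).1
  have hbc : ¬ Commute b (t .c) := notcomm (hperp .c (by decide) (by decide)) hnode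
  have hmem : ∀ x, t x ∈ D := fun x => by
    cases x
    · exact ha
    · exact hb
    · exact (hperp .c (by decide) (by decide)).1
    · exact (hperp .d (by decide) (by decide)).1
    · exact (hperp .e (by decide) (by decide)).1
    · exact (hperp .f (by decide) (by decide)).1
    · exact (hperp .g (by decide) (by decide)).1
    · exact (hperp .h (by decide) (by decide)).1
    · exact (hperp .i (by decide) (by decide)).1
  have ta : t .a = a := rfl
  have tb : t .b = b := rfl
  have hcomm : ∀ x y, Commute (t x) (t y) ↔ coxLabel edges x y ≠ 3 := by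
    have hA : ∀ x, x ≠ .a → (Commute a (t x) ↔ x ≠ .b) := by
      intro x hx
      by_cases hxb : x = .b
      · subst hxb; exact iff_of_false hab (by simp)
      · exact iff_of_true (hperp x hx hxb).2.2 hxb
    have hB : ∀ x, x ≠ .b → (Commute b (t x) ↔ ¬ (x = .a ∨ x = .c)) := by
      intro x hx
      by_cases hxa : x = .a
      · subst hxa; exact iff_of_false (fun h => hab h.symm) (by simp)
      by_cases hxc : x = .c
      · subst hxc; exact iff_of_false hbc (by simp)
      · exact iff_of_true (hsix x hxa hx hxc).2.2.2 (by simp [hxa, hxc])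
    intro x y
    by_cases hxa : x = .a
    · subst hxa
      by_cases hya : y = .a
      · subst hya; exact iff_of_true (Commute.refl _) (by decide)
      · rw [ta, hA y hya, Ne, Ne, (label_a y hya).1]
    by_cases hya : y = .a
    · subst hya
      rw [ta, commute_iff_eq, eq_comm, ← commute_iff_eq, hA x hxa, Ne, Ne, (label_a x hxa).2]
    by_cases hxb : x = .b
    · subst hxb
      by_cases hyb : y = .b
      · subst hyb; exact iff_of_true (Commute.refl _) (by decide)
      · rw [tb, hB y hyb, Ne, (label_b y hyb).1]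
    by_cases hyb : y = .b
    · subst hyb
      rw [tb, commute_iff_eq, eq_comm, ← commute_iff_eq, hB x hxb, Ne, (label_b x hxb).2]
    rw [ht x hxa hxb, ht y hya hyb, K.P_comm (nv_ok x hxa hxb).1 (nv_ok y hya hyb).1]
    exact (nv_ok x hxa hxb).2 y hya hyb
  let N : Nine D := ⟨t, hmem, hcomm, inj_of_comm t hcomm⟩
  have hcox := N.cox S.hD
  obtain ⟨hlt, s1, s2, m1, m2⟩ := word_checks
  obtain ⟨z1sq, z1c⟩ := seven_facts t idx₁ matrix₁ hcox word₁ seven₁ word_nodes.1
    (fun j hj => hlt j (List.mem_append_left _ hj)) s1 m1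
  obtain ⟨z2sq, z2c⟩ := seven_facts t idx₂ matrix₂ hcox word₂ seven₂ word_nodes.2
    (fun j hj => hlt j (List.mem_append_right _ hj)) s2 m2
  refine ⟨N, rfl, rfl, ht, ?_, ?_, ?_⟩
  · -- the spider
    have htheta : (t .b * wp (fun x => t (node₇ x)) AffHom.theta) ^ 3 = 1 := by
      have hsplit : AffHom.theta.map node₇ =
          (AffHom.theta.map node₇).take 10 ++ [.c] ++ ((AffHom.theta.map node₇).take 10).reverse ∧
          (∀ y ∈ Cfsg.Spor.Fi22.Gen.c :: (AffHom.theta.map node₇).take 10, y ≠ .a ∧ y ≠ .b) ∧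
          ∃ l : K4, l ≠ 0 ∧ ((AffHom.theta.map node₇).take 10).foldr
            (fun y v => tvI M3 (vec (nv y)) v) (vec (nv .c)) = l • vec top := by
        decide +kernel
      obtain ⟨hs1, hs2, l, hl, hfold⟩ := hsplit
      obtain ⟨-, href⟩ := reflected K t (fun x => vec (nv x)) (fun x h1 h2 => (nv_ok x h1 h2).1) ht
        _ .c hs2
      rw [← hs1, hfold, K.P_smul Excl.special_iso.2.2.1 hl, wp_map] at href
      rw [href]
      refine Cfsg.Agent.Lib.FischerMTypes.Basic.cube_eq_one S.hD.1 hb (K.P_mem Excl.special_iso.2.2.1).1 ?_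
      exact notcomm (K.P_mem Excl.special_iso.2.2.1) htop
    obtain ⟨hy3, hyc⟩ := AffHom.spider_facts (fun x => t (node₇ x))
      (fun x y => by rw [label₇]; exact hcox _ _) htheta
    rw [← wp_map, node₇_spider] at hy3
    have hyc' : ∀ x, Commute (wp t spider) (t (node₇ x)) := fun x => by
      have := hyc x
      rwa [← wp_map, node₇_spider] at this
    let w' : Fin 6 → Node := ![.i, .h, .d, .e, .f, .g]
    have hw1 : ∀ k, w' k ≠ .b ∧ coxLabel edges .b (w' k) ≠ 3 := by decide +kernel
    have hw2 : ∀ k k' : Fin 6,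
        coxLabel edges (w' k) (w' k') ≠ 3 ↔ ¬ (k.1 + 1 = k'.1 ∨ k'.1 + 1 = k.1) := by
      decide +kernel
    obtain ⟨K', hK'⟩ := exists_of_path (S.ctx (t .b) (hmem .b)) (w := fun k => t (w' k))
      (fun k => N.perp_mem (hw1 k).1 (hw1 k).2) (fun k k' => (hcomm _ _).trans (hw2 k k'))
    have h5 : ∀ k : Fin 6, k.1 < 5 → Commute (wp t spider) (K'.P (unit k)) := by
      intro k hk
      rw [hK']
      fin_cases k
      exacts [hyc' .i, hyc' .h, hyc' .d, hyc' .e, hyc' .f, absurd hk (by decide)]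
    have e1 : vec 1 = unit 0 := by decide +kernel
    have hcases := fix_five S (hmem .b) K' (hyc' .b) (n := 1) (by simp)
      (by rw [e1]; exact h5 0 (by decide)) (fun k _ hk => h5 k hk)
    set y := wp t spider
    have hu := K'.P_mem Excl.special_iso.1
    have hy2 : y * y = 1 := by
      rcases hcases with h | h | h | h <;> rw [h]
      · exact one_mul 1
      · exact mul_self S.hD.1 (hmem .b)
      · exact mul_self S.hD.1 hu.1
      · have hc : Commute (t .b) (K'.P (vec rad)) := hu.2.2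
        rw [show ∀ p r : G, p * r * (p * r) = p * (r * p) * r from fun p r => by group, ← hc.eq,
          show ∀ p r : G, p * (p * r) * r = p * p * (r * r) from fun p r => by group,
          mul_self S.hD.1 hu.1, mul_self S.hD.1 (hmem .b), one_mul]
    rw [pow_succ, pow_two, hy2, one_mul] at hy3
    exact hy3
  · -- the first word of type E7
    set z := wp t seven₁
    have h5 : ∀ k : Fin 6, 0 < k.1 → k.1 < 5 → Commute z (K.P (unit k)) := by
      intro k hk hk'
      have e : ∀ k : Fin 6, 0 < k.1 → k.1 < 5 → ∃ j : Fin 7, idx₁ j ≠ .a ∧ idx₁ j ≠ .b ∧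
          unit k = vec (nv (idx₁ j)) := by decide +kernel
      obtain ⟨j, j1, j2, hj⟩ := e k hk hk'
      rw [hj, ← ht _ j1 j2]
      exact z1c j
    have hc : Commute z (K.P (vec node)) := z1c 4
    have hcases := fix_five S ha K (z1c 6) (n := node) (by simp) hc h5
    have hzb : Commute z b := z1c 5
    rcases hcases with h | h | h | h
    · exact h
    · exact absurd (h ▸ hzb : Commute a b) hab
    · exact absurd (h ▸ hzb).symm (notcomm (K.P_mem Excl.special_iso.1) hrad)
    · have hu := K.P_mem Excl.special_iso.1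
      exact absurd ((comm_mul_iff S.hD.1 ha hu.1 hb hu.2.2 (Ne.symm hu.2.1)).1 (h ▸ hzb).symm).1.symm hab
  · -- the second word of type E7
    set z := wp t seven₂
    let w' : Fin 6 → Node := ![.a, .b, .c, .d, .h, .i]
    have hw1 : ∀ k, w' k ≠ .g ∧ coxLabel edges .g (w' k) ≠ 3 := by decide +kernel
    have hw2 : ∀ k k' : Fin 6,
        coxLabel edges (w' k) (w' k') ≠ 3 ↔ ¬ (k.1 + 1 = k'.1 ∨ k'.1 + 1 = k.1) := by
      decide +kernel
    obtain ⟨K', hK'⟩ := exists_of_path (S.ctx (t .g) (hmem .g)) (w := fun k => t (w' k))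
      (fun k => N.perp_mem (hw1 k).1 (hw1 k).2) (fun k k' => (hcomm _ _).trans (hw2 k k'))
    -- the node e
    have he : t .e = K'.P (vec node) := by
      obtain ⟨v, hv, hve⟩ := K'.exists_P (N.perp_mem (x := .g) (y := .e) (by decide) (by decide))
      have horth : ∀ k : Fin 6, k.1 ≠ 3 → J M3 v (unit k) = 0 := by
        intro k hk
        rw [← K'.P_comm hv (unit_ok k), hve, hK']
        have e : ∀ k : Fin 6, k.1 ≠ 3 → coxLabel edges .e (w' k) ≠ 3 := by decide +kernel
        exact (hcomm _ _).2 (e k hk)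
      have hv' := node_orth ⟨code v, code_lt v⟩ (fun k hk => by rw [vec_code]; exact horth k hk)
      simp only [vec_code] at hv'
      have hv0 : v 0 ≠ 0 := fun h => hv.2 (by rw [hv', h, zero_smul])
      calc t .e = K'.P v := hve.symm
        _ = K'.P (vec node) := by rw [hv', K'.P_smul Excl.special_iso.2.1 hv0]
    have h5 : ∀ k : Fin 6, 0 < k.1 → k.1 < 5 → Commute z (K'.P (unit k)) := by
      intro k hk hk'
      rw [hK']
      fin_cases k
      exacts [absurd hk (by decide), z2c 0, z2c 2, z2c 3, z2c 1, absurd hk' (by decide)]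
    have hc : Commute z (K'.P (vec node)) := by rw [← he]; exact z2c 4
    have hcases := fix_five S (hmem .g) K' (z2c 6) (n := node) (by simp) hc h5
    have hzf : Commute z (t .f) := z2c 5
    have hfg : ¬ Commute (t .f) (t .g) := fun h => (hcomm .f .g).1 h (by decide)
    have hu := K'.P_mem Excl.special_iso.1
    have hfv : ¬ Commute (t .f) (K'.P (vec rad)) := by
      intro hfv
      set v := K'.P (vec rad)
      have horth : ∀ k : Fin 6, k.1 < 5 → Commute v (K'.P (unit k)) := by
        have e : ∀ k : Fin 6, k.1 < 5 → J M3 (vec rad) (unit k) = 0 := by decide +kernel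
        exact fun k hk => (K'.P_comm Excl.special_iso.1 (unit_ok k)).2 (e k hk)
      have hva : Commute v a := by have := horth 0 (by decide); rwa [hK'] at this
      have hvb : Commute v b := by have := horth 1 (by decide); rwa [hK'] at this
      have hne : ∀ k : Fin 6, v ≠ t (w' k) := by
        intro k h
        rw [← hK'] at h
        obtain ⟨l, -, hl⟩ := (K'.P_eq Excl.special_iso.1 (unit_ok k)).1 h
        have e : ∀ k : Fin 6, ∀ l : K4, unit k ≠ l • vec rad := by decide +kernel
        exact e k l hl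
      have hvT : v ∈ perp₂ D a b :=
        ⟨⟨hu.1, hne 0, hva.symm⟩, hu.1, hne 1, hvb.symm⟩
      have hev : Commute v (t .e) := by
        rw [he]
        exact (K'.P_comm Excl.special_iso.1 Excl.special_iso.2.1).2 (by decide +kernel)
      obtain ⟨x, hx, hxv⟩ := K.exists_P hvT.1
      have hx5 : ∀ k : Fin 6, k.1 < 5 → J M3 x (unit k) = 0 := by
        intro k hk
        rw [← K.P_comm hx (unit_ok k), hxv]
        have hd := horth 3 (by decide)
        have hh := horth 4 (by decide)
        rw [hK'] at hd hh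
        have eg : ∀ (y : Node) (k : Fin 6), y ≠ .a → y ≠ .b → vec (nv y) = unit k → K.P (unit k) = t y :=
          fun y k h1 h2 h => by rw [ht y h1 h2, h]
        fin_cases k <;> dsimp only [Fin.zero_eta, Fin.mk_one, Fin.reduceFinMk]
        · rw [eg .g 0 (by decide) (by decide) (by decide +kernel)]; exact hu.2.2.symm
        · rw [eg .f 1 (by decide) (by decide) (by decide +kernel)]; exact hfv.symm
        · rw [eg .e 2 (by decide) (by decide) (by decide +kernel)]; exact hev
        · rw [eg .d 3 (by decide) (by decide) (by decide +kernel)]; exact hd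
        · rw [eg .h 4 (by decide) (by decide) (by decide +kernel)]; exact hh
        · exact absurd hk (by decide)
      have hx' := rad_orth ⟨code x, code_lt x⟩ (fun k hk => by rw [vec_code]; exact hx5 k hk)
      simp only [vec_code] at hx'
      have hx0 : x 0 ≠ 0 := fun h => hx.2 (by rw [hx', h, zero_smul])
      refine hrad ?_
      rw [← K.P_smul Excl.special_iso.1 hx0, ← hx', hxv]
      exact hvT
    rcases hcases with h | h | h | h
    · exact h
    · exact absurd (h ▸ hzf).symm hfg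
    · exact absurd (h ▸ hzf).symm hfv
    · exact absurd ((comm_mul_iff S.hD.1 (hmem .g) hu.1 (hmem .f) hu.2.2 (Ne.symm hu.2.1)).1
        (h ▸ hzf).symm).1 hfg

include S in
/-- the nine transpositions exist and satisfy all relations -/
theorem exists_nine : ∃ N : Nine D, wp N.t spider = 1 ∧ wp N.t seven₁ = 1 ∧ wp N.t seven₂ = 1 := by
  obtain ⟨a, ha, -⟩ := S.hprim.2.1
  obtain ⟨b, hb, hab⟩ : ∃ x ∈ D, ¬ Commute a x :=
    Set.nonempty_of_ncard_ne_zero (by rw [ncard_far S ha]; norm_num :
      {x | x ∈ D ∧ ¬ Commute a x}.ncard ≠ 0)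
  obtain ⟨w, hwT, hwc⟩ := Trace.exists_path S ha hb hab
  obtain ⟨K, hK⟩ := exists_of_path (S.ctx a ha) (fun i => (hwT i).1) hwc
  obtain ⟨N, -, -, -, h⟩ := nine_of_frame S ha hb hab K (fun i => by rw [hK]; exact hwT i)
  exact ⟨N, h⟩

end Cfsg.Agent.Lib.FischerUniq91.Rels
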